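import Groth.Agent.GrSyzMin.Cone

/-!
Regularity and top Betti numbers in short exact sequences.
-/

set_option autoImplicit false
set_option linter.unusedSectionVars false
universe u

open scoped Classical
open DirectSum Groth.Agent.GrSyzHilb

noncomputable section

namespace Groth.Agent.GrSyzMin

variable {k : Type u} [Field k] {n : ℕ}
variable {M : Type u} [AddCommGroup M] [Module k M] [Module (MvPolynomial (Fin n) k) M]
  [IsScalarTower k (MvPolynomial (Fin n) k) M]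
  {ℳ : ℤ → Submodule k M} [DirectSum.Decomposition ℳ] [SetLike.GradedSMul (GrSyz.stdGr k (Fin n)) ℳ]
variable {N : Type u} [AddCommGroup N] [Module k N] [Module (MvPolynomial (Fin n) k) N]
  [IsScalarTower k (MvPolynomial (Fin n) k) N]
  {𝒩 : ℤ → Submodule k N} [DirectSum.Decomposition 𝒩] [SetLike.GradedSMul (GrSyz.stdGr k (Fin n)) 𝒩]
variable {C : Type u} [AddCommGroup C] [Module k C] [Module (MvPolynomial (Fin n) k) C]
  [IsScalarTower k (MvPolynomial (Fin n) k) C]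
  {𝒞 : ℤ → Submodule k C} [DirectSum.Decomposition 𝒞] [SetLike.GradedSMul (GrSyz.stdGr k (Fin n)) 𝒞]
variable {f : M →ₗ[MvPolynomial (Fin n) k] N} {g : N →ₗ[MvPolynomial (Fin n) k] C}
variable {F : GrSyz.FreeRes (GrSyz.stdGr k (Fin n)) ℳ} {G : GrSyz.FreeRes (GrSyz.stdGr k (Fin n)) 𝒩}
variable {δ : ℤ} (φ : CMap F G f δ) (hf : Function.Injective f) (hg : Function.Surjective g)
  (hfg : LinearMap.range f = LinearMap.ker g) (hgr : ∀ (e : ℤ) (x : N), x ∈ 𝒩 e → g x ∈ 𝒞 e)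

lemma cone_deg_succ (i : ℕ) : (cone φ g hf hg hfg hgr).deg (i + 1) =
    Fin.append (G.deg (i + 1)) (fun b => F.deg i b + δ) := rfl

/-- degrees of the cone -/
lemma cone_van_of_deg {j : ℤ} : ∀ (i : ℕ), (∀ b, G.deg i b ≠ j) →
    (∀ i', i = i' + 1 → ∀ b, F.deg i' b + δ ≠ j) → Van (cone φ g hf hg hfg hgr) i j
  | 0, hG, _ => van_of_deg _ _ hG
  | i + 1, hG, hF => van_of_deg _ _ fun b => by
      rw [cone_deg_succ]
      induction b using Fin.addCases with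
      | left b => simpa using hG b
      | right b => simpa using hF i rfl b

lemma bar_coneD_zero (y : Fin (G.rk 1) → k) (w : Fin (F.rk 0) → k) :
    bar (coneD φ 0) (Fin.append y w) = bar (G.d 0) y + bar (φ.φ 0) w := bar_hcat _ _ y w

lemma bar_coneD_succ (i : ℕ) (y : Fin (G.rk (i + 1 + 1)) → k) (w : Fin (F.rk (i + 1)) → k) :
    bar (coneD φ (i + 1)) (Fin.append y w) =
      Fin.append (bar (G.d (i + 1)) y + bar (φ.φ (i + 1)) w) (- bar (F.d i) w) :=
  (bar_vcat _ _ _).trans (congrArg₂ Fin.append (bar_hcat (G.d (i + 1)) (φ.φ (i + 1)) y w)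
    ((bar_hcat 0 (-F.d i) y w).trans (by rw [bar_zero, zero_add, bar_neg])))

variable (hFm : F.IsMinimal (GrSyz.irrel (GrSyz.stdGr k (Fin n))).toIdeal)
  (hGm : G.IsMinimal (GrSyz.irrel (GrSyz.stdGr k (Fin n))).toIdeal)

include hFm hGm in
/-- classes of `F` killed by the map give classes of the cone -/
lemma eq_zero_of_van_cone {i : ℕ} {j : ℤ} (hC : Van (cone φ g hf hg hfg hgr) (i + 1) (j + δ))
    {x : Fin (F.rk i) → k} (hx : x ∈ supp (F.deg i) j) (hφx : bar (φ.φ i) x = 0) : x = 0 := by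
  have hG0 : ∀ i y, bar (G.d i) y = 0 := fun i y => bar_eq_zero (isMinimal_iff.1 hGm i) y
  have hF0 : ∀ i y, bar (F.d i) y = 0 := fun i y => bar_eq_zero (isMinimal_iff.1 hFm i) y
  have hz : Fin.append (0 : Fin (G.rk (i + 1)) → k) x ∈ Z (cone φ g hf hg hfg hgr) (i + 1) (j + δ) := by
    refine ⟨(append_mem_supp (d := G.deg (i + 1)) (e := fun b => F.deg i b + δ)).2 ⟨Submodule.zero_mem _, by rw [supp_shift]; exact hx⟩, ?_⟩
    show bar (coneD φ i) (Fin.append (0 : Fin (G.rk (i + 1)) → k) x) = 0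
    cases i with
    | zero => exact (bar_coneD_zero φ 0 x).trans (by rw [map_zero, hφx, add_zero]; rfl)
    | succ i => exact (bar_coneD_succ φ i 0 x).trans ((congrArg₂ Fin.append (by rw [map_zero, hφx, add_zero]) (by rw [hF0, neg_zero])).trans append_zero)
  obtain ⟨v, -, hv⟩ := hC hz
  obtain ⟨y, w, rfl⟩ : ∃ y w, v = Fin.append y w := ⟨_, _, append_split (p := G.rk (i + 1 + 1)) (q := F.rk (i + 1)) v⟩
  have := ((append_eq_iff _ _ _ _).1 ((bar_coneD_succ φ i y w).symm.trans hv)).2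
  rw [hF0, neg_zero] at this
  exact this.symm

include hGm in
/-- classes of `G` killed in the cone come from `F` -/
lemma exists_preimage_of_van_cone {i : ℕ} {j : ℤ} (hC : Van (cone φ g hf hg hfg hgr) i (j + δ))
    {y : Fin (G.rk i) → k} (hy : y ∈ supp (G.deg i) (j + δ)) :
    ∃ x ∈ supp (F.deg i) j, bar (φ.φ i) x = y := by
  have hG0 : ∀ i y, bar (G.d i) y = 0 := fun i y => bar_eq_zero (isMinimal_iff.1 hGm i) y
  cases i with
  | zero =>
    obtain ⟨v, hv', hv⟩ := hC (show y ∈ Z (cone φ g hf hg hfg hgr) 0 (j + δ) from hy)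
    obtain ⟨y', w, rfl⟩ : ∃ y w, v = Fin.append y w := ⟨_, _, append_split (p := G.rk 1) (q := F.rk 0) v⟩
    refine ⟨w, by rw [← supp_shift _ δ]; exact ((append_mem_supp (d := G.deg 1) (e := fun b => F.deg 0 b + δ)).1 hv').2, ?_⟩
    have := (bar_coneD_zero φ y' w).symm.trans hv
    rwa [hG0, zero_add] at this
  | succ i =>
    have hz : Fin.append y (0 : Fin (F.rk i) → k) ∈ Z (cone φ g hf hg hfg hgr) (i + 1) (j + δ) := by
      refine ⟨(append_mem_supp (d := G.deg (i + 1)) (e := fun b => F.deg i b + δ)).2 ⟨hy, Submodule.zero_mem _⟩, ?_⟩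
      show bar (coneD φ i) (Fin.append y (0 : Fin (F.rk i) → k)) = 0
      cases i with
      | zero => exact (bar_coneD_zero φ y 0).trans (by rw [map_zero, hG0, add_zero]; rfl)
      | succ i => exact (bar_coneD_succ φ i y 0).trans ((congrArg₂ Fin.append (by rw [map_zero, hG0, add_zero]) (by rw [map_zero, neg_zero])).trans append_zero)
    obtain ⟨v, hv', hv⟩ := hC hz
    obtain ⟨y', w, rfl⟩ : ∃ y w, v = Fin.append y w := ⟨_, _, append_split (p := G.rk (i + 1 + 1)) (q := F.rk (i + 1)) v⟩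
    refine ⟨w, by rw [← supp_shift _ δ]; exact ((append_mem_supp (d := G.deg (i + 1 + 1)) (e := fun b => F.deg (i + 1) b + δ)).1 hv').2, ?_⟩
    have := ((append_eq_iff _ _ _ _).1 ((bar_coneD_succ φ i y' w).symm.trans hv)).1
    rwa [hG0, zero_add] at this

lemma supp_eq_bot {m : ℕ} {deg : Fin m → ℤ} {j : ℤ} {x : Fin m → k} (h : ∀ b, deg b ≠ j)
    (hx : x ∈ supp deg j) : x = 0 := funext fun b => hx b (h b)

lemma not_mem_deg_of_supp {m : ℕ} {deg : Fin m → ℤ} {j : ℤ} (h : ∀ x ∈ supp (k := k) deg j, x = 0) (b : Fin m) :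
    deg b ≠ j := fun hb => by
  have := congrFun (h (Pi.single b 1) fun b' hb' => by
    rw [Pi.single_eq_of_ne]
    rintro rfl
    exact hb' hb) b
  simp at this

section Reg

variable [Module.Finite (MvPolynomial (Fin n) k) M] [Module.Finite (MvPolynomial (Fin n) k) N]
  [Module.Finite (MvPolynomial (Fin n) k) C]
variable (ℳ 𝒩 𝒞)


theorem regLE_left (hfd : GrLC.IsGrHomDeg ℳ 𝒩 f δ) (hf : Function.Injective f) (hg : Function.Surjective g)
    (hfg : LinearMap.range f = LinearMap.ker g) (hgr : ∀ (e : ℤ) (x : N), x ∈ 𝒩 e → g x ∈ 𝒞 e) (r : ℤ)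
    (hN : GrSyz.IsRegLE (GrSyz.stdGr k (Fin n)) 𝒩 (GrSyz.irrel (GrSyz.stdGr k (Fin n))).toIdeal (r + δ)) (hC : GrSyz.IsRegLE (GrSyz.stdGr k (Fin n)) 𝒞 (GrSyz.irrel (GrSyz.stdGr k (Fin n))).toIdeal (r + δ - 1)) : GrSyz.IsRegLE (GrSyz.stdGr k (Fin n)) ℳ (GrSyz.irrel (GrSyz.stdGr k (Fin n))).toIdeal r := by
  obtain ⟨F, hF⟩ := exists_minimal (n := n) ℳ
  obtain ⟨G, hG, hGr⟩ := hN
  obtain ⟨φ⟩ := exists_cmap F G δ f hfd
  rw [isRegLE_iff (cone φ g hf hg hfg hgr)] at hC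
  rw [isRegLE_iff_isGenLE hF]
  intro i b
  by_contra hb
  refine not_mem_deg_of_supp (k := k) (j := F.deg i b) (fun x hx => ?_) b rfl
  refine eq_zero_of_van_cone φ hf hg hfg hgr hF hG (hC _ _ (by push_cast; omega)) hx ?_
  exact supp_eq_bot (fun c => by have := hGr i c; omega) (φ.bar_mem hx)

theorem regLE_mid (hfd : GrLC.IsGrHomDeg ℳ 𝒩 f δ) (hf : Function.Injective f) (hg : Function.Surjective g)
    (hfg : LinearMap.range f = LinearMap.ker g) (hgr : ∀ (e : ℤ) (x : N), x ∈ 𝒩 e → g x ∈ 𝒞 e) (r : ℤ)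
    (hM : GrSyz.IsRegLE (GrSyz.stdGr k (Fin n)) ℳ (GrSyz.irrel (GrSyz.stdGr k (Fin n))).toIdeal (r - δ)) (hC : GrSyz.IsRegLE (GrSyz.stdGr k (Fin n)) 𝒞 (GrSyz.irrel (GrSyz.stdGr k (Fin n))).toIdeal r) : GrSyz.IsRegLE (GrSyz.stdGr k (Fin n)) 𝒩 (GrSyz.irrel (GrSyz.stdGr k (Fin n))).toIdeal r := by
  obtain ⟨G, hG⟩ := exists_minimal (n := n) 𝒩
  obtain ⟨F, hF, hFr⟩ := hM
  obtain ⟨φ⟩ := exists_cmap F G δ f hfd
  rw [isRegLE_iff (cone φ g hf hg hfg hgr)] at hC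
  rw [isRegLE_iff_isGenLE hG]
  intro i b
  by_contra hb
  refine not_mem_deg_of_supp (k := k) (j := G.deg i b - δ + δ) (fun y hy => ?_) b (sub_add_cancel _ _).symm
  obtain ⟨x, hx, rfl⟩ := exists_preimage_of_van_cone φ hf hg hfg hgr hG (hC _ _ (by omega)) hy
  rw [supp_eq_bot (fun c => by have := hFr i c; omega) hx, map_zero]

theorem regLE_right (hfd : GrLC.IsGrHomDeg ℳ 𝒩 f δ) (hf : Function.Injective f) (hg : Function.Surjective g)
    (hfg : LinearMap.range f = LinearMap.ker g) (hgr : ∀ (e : ℤ) (x : N), x ∈ 𝒩 e → g x ∈ 𝒞 e) (r : ℤ)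
    (hM : GrSyz.IsRegLE (GrSyz.stdGr k (Fin n)) ℳ (GrSyz.irrel (GrSyz.stdGr k (Fin n))).toIdeal (r - δ + 1)) (hN : GrSyz.IsRegLE (GrSyz.stdGr k (Fin n)) 𝒩 (GrSyz.irrel (GrSyz.stdGr k (Fin n))).toIdeal r) : GrSyz.IsRegLE (GrSyz.stdGr k (Fin n)) 𝒞 (GrSyz.irrel (GrSyz.stdGr k (Fin n))).toIdeal r := by
  obtain ⟨F, hF, hFr⟩ := hM
  obtain ⟨G, hG, hGr⟩ := hN
  obtain ⟨φ⟩ := exists_cmap F G δ f hfd
  rw [isRegLE_iff (cone φ g hf hg hfg hgr)]
  intro i j hij
  refine cone_van_of_deg φ hf hg hfg hgr i (fun b => ?_) ?_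
  · have := hGr i b
    omega
  · rintro i rfl b
    have := hFr i b
    push_cast at hij
    omega

end Reg

end Groth.Agent.GrSyzMin
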