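import Groth.Agent.GrSyzMin.Sub
import Groth.Agent.GrSyzMin.SES

/-!
Regular sequences of linear forms: regularity is unchanged, degrees of bases move along.
-/

set_option autoImplicit false
set_option linter.unusedSectionVars false
set_option linter.unusedVariables false
universe u

open scoped Classical
open DirectSum Groth.Agent.GrSyzHilb
open scoped Pointwise

noncomputable section

namespace Groth.Agent.GrSyzMin

variable {k : Type u} [Field k] {n : ℕ}

section Transport

variable {M : Type u} [AddCommGroup M] [Module k M] [Module (MvPolynomial (Fin n) k) M]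
  [IsScalarTower k (MvPolynomial (Fin n) k) M]
  {ℳ : ℤ → Submodule k M} [DirectSum.Decomposition ℳ] [SetLike.GradedSMul (GrSyz.stdGr k (Fin n)) ℳ]
variable {N : Type u} [AddCommGroup N] [Module k N] [Module (MvPolynomial (Fin n) k) N]
  [IsScalarTower k (MvPolynomial (Fin n) k) N]
  {𝒩 : ℤ → Submodule k N} [DirectSum.Decomposition 𝒩] [SetLike.GradedSMul (GrSyz.stdGr k (Fin n)) 𝒩]

/-- A resolution transported along a bijective graded map. -/
def mapRes (F : GrSyz.FreeRes (GrSyz.stdGr k (Fin n)) ℳ) (π : M →ₗ[MvPolynomial (Fin n) k] N)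
    (hπ : Function.Bijective π) (hgr : ∀ (e : ℤ) (x : M), x ∈ ℳ e → π x ∈ 𝒩 e) :
    GrSyz.FreeRes (GrSyz.stdGr k (Fin n)) 𝒩 where
  rk := F.rk
  deg := F.deg
  d := F.d
  aug b := π (F.aug b)
  d_mem := F.d_mem
  aug_mem b := hgr _ _ (F.aug_mem b)
  aug_surjective := by
    have : Fintype.linearCombination (MvPolynomial (Fin n) k) (fun b => π (F.aug b)) = π.comp F.augLin := by
      refine LinearMap.ext fun v => ?_
      simp [Fintype.linearCombination_apply, map_sum]
    rw [this]
    exact hπ.2.comp F.aug_surjective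
  exact_zero := by
    have : Fintype.linearCombination (MvPolynomial (Fin n) k) (fun b => π (F.aug b)) = π.comp F.augLin := by
      refine LinearMap.ext fun v => ?_
      simp [Fintype.linearCombination_apply, map_sum]
    rw [this, LinearMap.ker_comp, LinearMap.ker_eq_bot.2 hπ.1, Submodule.comap_bot]
    exact F.exact_zero
  exact_succ := F.exact_succ

end Transport

section Free

variable {m : ℕ} (deg : Fin m → ℤ)

def freeRk (m : ℕ) : ℕ → ℕ
  | 0 => m
  | _ + 1 => 0

def freeDeg : (i : ℕ) → Fin (freeRk m i) → ℤ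
  | 0 => deg
  | _ + 1 => Fin.elim0

/-- The resolution of a free module by itself. -/
def freeRes : GrSyz.FreeRes (GrSyz.stdGr k (Fin n)) (vec (k := k) (n := n) deg) where
  rk := freeRk m
  deg := freeDeg deg
  d _ := 0
  aug b := Pi.single b 1
  d_mem _ _ _ := Submodule.zero_mem _
  aug_mem b := (mem_vec deg).2 fun b' => by
    show (Pi.single b 1 : Fin m → MvPolynomial (Fin n) k) b' ∈ GrSyz.stdGr k (Fin n) (deg b - deg b')
    by_cases h : b' = b
    · subst h
      rw [Pi.single_eq_same, sub_self]
      exact SetLike.one_mem_graded _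
    · rw [Pi.single_eq_of_ne h]
      exact Submodule.zero_mem _
  aug_surjective v := ⟨v, by
    show Fintype.linearCombination (MvPolynomial (Fin n) k) (fun b : Fin m => Pi.single b 1) v = v
    funext a
    simp [Fintype.linearCombination_apply, Finset.sum_apply, Pi.single_apply]⟩
  exact_zero := by
    refine (eq_bot_iff.2 fun v hv => ?_).trans (eq_bot_iff.2 ?_).symm
    · rw [Submodule.mem_bot]
      funext a
      have := congrFun (LinearMap.mem_ker.1 hv : Fintype.linearCombination (MvPolynomial (Fin n) k) (fun b : Fin m => (Pi.single b 1 : Fin m → MvPolynomial (Fin n) k)) v = 0) a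
      refine Eq.trans ?_ this
      simp [Fintype.linearCombination_apply, Finset.sum_apply, Pi.single_apply]
    · rintro _ ⟨w, rfl⟩
      simp
  exact_succ i := by
    have : Subsingleton (Fin (freeRk m (i + 1)) → MvPolynomial (Fin n) k) :=
      inferInstanceAs (Subsingleton (Fin 0 → MvPolynomial (Fin n) k))
    exact Subsingleton.elim _ _

lemma isMinimal_freeRes : (freeRes (k := k) (n := n) deg).IsMinimal (GrSyz.irrel (GrSyz.stdGr k (Fin n))).toIdeal :=
  fun _ _ _ => Ideal.zero_mem _

end Free

section XMap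

variable {M : Type u} [AddCommGroup M] [Module k M] [Module (MvPolynomial (Fin n) k) M]
  [IsScalarTower k (MvPolynomial (Fin n) k) M]
  {ℳ : ℤ → Submodule k M} [DirectSum.Decomposition ℳ] [SetLike.GradedSMul (GrSyz.stdGr k (Fin n)) ℳ]
variable (F : GrSyz.FreeRes (GrSyz.stdGr k (Fin n)) ℳ) {y : MvPolynomial (Fin n) k}

/-- Multiplication by a linear form. -/
def xMap (hy : y ∈ GrSyz.stdGr k (Fin n) 1) :
    CMap F F (y • (LinearMap.id : M →ₗ[MvPolynomial (Fin n) k] M)) 1 where
  φ i := y • (1 : Matrix (Fin (F.rk i)) (Fin (F.rk i)) (MvPolynomial (Fin n) k))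
  hom i a b := by
    by_cases h : a = b
    · subst h
      simpa using hy
    · simp [Matrix.one_apply_ne h]
  aug b := by
    have : (fun a => (y • (1 : Matrix (Fin (F.rk 0)) (Fin (F.rk 0)) (MvPolynomial (Fin n) k))) a b) = Pi.single b y := by
      funext a
      by_cases h : a = b
      · subst h; simp
      · simp [Matrix.one_apply_ne h, Pi.single_eq_of_ne h]
    rw [this]
    exact Fintype.linearCombination_apply_single _ F.aug b y
  comm i := by rw [Matrix.mul_smul, Matrix.smul_mul, Matrix.mul_one, Matrix.one_mul]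

end XMap

section Quot

variable {M : Type u} [AddCommGroup M] [Module k M] [Module (MvPolynomial (Fin n) k) M]
  [IsScalarTower k (MvPolynomial (Fin n) k) M]
  (ℳ : ℤ → Submodule k M) [DirectSum.Decomposition ℳ] [SetLike.GradedSMul (GrSyz.stdGr k (Fin n)) ℳ]
variable {N : Type u} [AddCommGroup N] [Module k N] [Module (MvPolynomial (Fin n) k) N]
  [IsScalarTower k (MvPolynomial (Fin n) k) N]
  (𝒩 : ℤ → Submodule k N) [DirectSum.Decomposition 𝒩] [SetLike.GradedSMul (GrSyz.stdGr k (Fin n)) 𝒩]
variable {y : MvPolynomial (Fin n) k} (hy : y ∈ GrSyz.stdGr k (Fin n) 1) (hreg : IsSMulRegular M y)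
  (π : M →ₗ[MvPolynomial (Fin n) k] N) (hπ : Function.Surjective π)
  (hker : LinearMap.range (y • (LinearMap.id : M →ₗ[MvPolynomial (Fin n) k] M)) = LinearMap.ker π)
  (hgr : ∀ (e : ℤ) (x : M), x ∈ ℳ e → π x ∈ 𝒩 e)

include hreg in
lemma injective_smul_id : Function.Injective (y • (LinearMap.id : M →ₗ[MvPolynomial (Fin n) k] M)) :=
  fun _ _ h => hreg h

variable {ℳ 𝒩}

/-- The resolution of the quotient by a regular linear form. -/
def quotRes (F : GrSyz.FreeRes (GrSyz.stdGr k (Fin n)) ℳ) : GrSyz.FreeRes (GrSyz.stdGr k (Fin n)) 𝒩 :=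
  cone (xMap F hy) π (injective_smul_id hreg) hπ hker hgr

lemma isMinimal_quotRes {F : GrSyz.FreeRes (GrSyz.stdGr k (Fin n)) ℳ}
    (hF : F.IsMinimal (GrSyz.irrel (GrSyz.stdGr k (Fin n))).toIdeal) :
    (quotRes hy hreg π hπ hker hgr F).IsMinimal (GrSyz.irrel (GrSyz.stdGr k (Fin n))).toIdeal := by
  have hφ : ∀ i a b, MvPolynomial.constantCoeff ((xMap F hy).φ i a b) = 0 := fun i a b => by
    have : (xMap F hy).φ i a b = y * (1 : Matrix (Fin (F.rk i)) (Fin (F.rk i)) (MvPolynomial (Fin n) k)) a b := rfl
    rw [this, map_mul, cst_eq_zero_of_ne one_ne_zero hy, zero_mul]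
  refine isMinimal_iff.2 fun i a b => ?_
  cases i with
  | zero =>
    show MvPolynomial.constantCoeff (hcat (F.d 0) ((xMap F hy).φ 0) a b) = 0
    induction b using Fin.addCases with
    | left b => simpa [hcat] using isMinimal_iff.1 hF 0 a b
    | right b => simpa [hcat] using hφ 0 a b
  | succ i =>
    show MvPolynomial.constantCoeff (vcat (hcat (F.d (i + 1)) ((xMap F hy).φ (i + 1))) (hcat 0 (-F.d i)) a b) = 0
    induction a using Fin.addCases with
    | left a =>
      induction b using Fin.addCases with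
      | left b => simpa [hcat, vcat] using isMinimal_iff.1 hF (i + 1) a b
      | right b => simpa [hcat, vcat] using hφ (i + 1) a b
    | right a =>
      induction b using Fin.addCases with
      | left b => simp [hcat, vcat]
      | right b => simpa [hcat, vcat] using isMinimal_iff.1 hF i a b

lemma isGenLE_quotRes_iff (F : GrSyz.FreeRes (GrSyz.stdGr k (Fin n)) ℳ) (r : ℤ) :
    (quotRes hy hreg π hπ hker hgr F).IsGenLE r ↔ F.IsGenLE r := by
  constructor
  · intro h i b
    have := h (i + 1) (Fin.natAdd _ b)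
    erw [cone_deg_succ] at this
    simp only [Fin.append_right] at this
    push_cast at this
    omega
  · intro h i b
    cases i with
    | zero => exact h 0 b
    | succ i =>
      erw [cone_deg_succ]
      induction b using Fin.addCases with
      | left b => simpa using h (i + 1) b
      | right b =>
        have := h i b
        simp only [Fin.append_right]
        push_cast
        omega

end Quot

section List

variable {N : Type u} [AddCommGroup N] [Module k N] [Module (MvPolynomial (Fin n) k) N]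
  [IsScalarTower k (MvPolynomial (Fin n) k) N]
  {𝒩 : ℤ → Submodule k N} [DirectSum.Decomposition 𝒩] [SetLike.GradedSMul (GrSyz.stdGr k (Fin n)) 𝒩]

/-- The quotient by a regular sequence of linear forms. -/
theorem exists_quotRes_list : ∀ (ys : List (MvPolynomial (Fin n) k)),
    (∀ y ∈ ys, y ∈ GrSyz.stdGr k (Fin n) 1) →
    ∀ (M : Type u) [AddCommGroup M] [Module k M] [Module (MvPolynomial (Fin n) k) M]
      [IsScalarTower k (MvPolynomial (Fin n) k) M]
      (ℳ : ℤ → Submodule k M) [DirectSum.Decomposition ℳ] [SetLike.GradedSMul (GrSyz.stdGr k (Fin n)) ℳ],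
      RingTheory.Sequence.IsWeaklyRegular M ys →
      ∀ (π : M →ₗ[MvPolynomial (Fin n) k] N), Function.Surjective π →
        LinearMap.ker π = Ideal.ofList ys • (⊤ : Submodule (MvPolynomial (Fin n) k) M) →
        (∀ (e : ℤ) (x : M), x ∈ ℳ e → π x ∈ 𝒩 e) →
        ∀ F : GrSyz.FreeRes (GrSyz.stdGr k (Fin n)) ℳ, F.IsMinimal (GrSyz.irrel (GrSyz.stdGr k (Fin n))).toIdeal →
          ∃ G : GrSyz.FreeRes (GrSyz.stdGr k (Fin n)) 𝒩, G.IsMinimal (GrSyz.irrel (GrSyz.stdGr k (Fin n))).toIdeal ∧
            (∀ r, G.IsGenLE r ↔ F.IsGenLE r) ∧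
            (∀ i b, ∃ c, G.deg (i + ys.length) c = F.deg i b + ys.length) ∧
            (∀ i, F.HasLengthLE i → G.HasLengthLE (i + ys.length)) := by
  intro ys
  induction ys with
  | nil =>
    intro _ M _ _ _ _ ℳ _ _ _ π hπ hker hgr F hF
    have hb : Function.Bijective π := ⟨LinearMap.ker_eq_bot.1 (by rw [hker, Ideal.ofList_nil, Submodule.bot_smul]), hπ⟩
    exact ⟨mapRes F π hb hgr, hF, fun _ => Iff.rfl, fun i b => ⟨b, by simp [mapRes]⟩, fun i h => h⟩
  | cons y ys ih =>
    intro hys M _ _ _ _ ℳ _ _ hreg π hπ hker hgr F hF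
    obtain ⟨hy, hys⟩ := List.forall_mem_cons.1 hys
    rw [RingTheory.Sequence.isWeaklyRegular_cons_iff] at hreg
    let K := LinearMap.range (y • (LinearMap.id : M →ₗ[MvPolynomial (Fin n) k] M))
    letI := quotDec ℳ K (homog_smul_top hy)
    have hK : y • (⊤ : Submodule (MvPolynomial (Fin n) k) M) = K := by
      ext x
      simp only [Submodule.mem_smul_pointwise_iff_exists, Submodule.mem_top, true_and, K, LinearMap.mem_range,
        LinearMap.smul_apply, LinearMap.id_apply]
    have hreg' : RingTheory.Sequence.IsWeaklyRegular (M ⧸ K) ys :=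
      ((Submodule.quotEquivOfEq _ _ hK).isWeaklyRegular_congr ys).1 hreg.2
    have hKle : K ≤ LinearMap.ker π := by
      rw [hker, ← hK]
      intro x hx
      obtain ⟨z, hz, rfl⟩ := (Submodule.mem_smul_pointwise_iff_exists _ _ _).1 hx
      exact Submodule.smul_mem_smul (Ideal.subset_span (List.mem_cons_self ..)) hz
    have hker' : LinearMap.ker (K.liftQ π hKle) = Ideal.ofList ys • (⊤ : Submodule (MvPolynomial (Fin n) k) (M ⧸ K)) := by
      rw [Submodule.ker_liftQ, hker, Submodule.map_smul'', Submodule.map_top, Submodule.range_mkQ]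
      have hz : (Ideal.span {y} : Ideal (MvPolynomial (Fin n) k)) • (⊤ : Submodule (MvPolynomial (Fin n) k) (M ⧸ K)) = ⊥ := by
        refine eq_bot_iff.2 (Submodule.smul_le.2 fun a ha z _ => ?_)
        obtain ⟨b, rfl⟩ := Ideal.mem_span_singleton'.1 ha
        obtain ⟨x, rfl⟩ := Submodule.Quotient.mk_surjective K z
        rw [Submodule.mem_bot, ← Submodule.Quotient.mk_smul, Submodule.Quotient.mk_eq_zero, mul_smul]
        exact Submodule.smul_mem _ _ ⟨x, rfl⟩
      rw [Ideal.ofList_cons, Submodule.sup_smul, hz, bot_sup_eq]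
    obtain ⟨G, hG, hr, hc, hl⟩ := ih hys (M ⧸ K) (quotGr ℳ K) hreg' (K.liftQ π hKle)
      (fun z => by obtain ⟨x, rfl⟩ := hπ z; exact ⟨Submodule.Quotient.mk x, rfl⟩) hker'
      (fun e z hz => by obtain ⟨x, hx, rfl⟩ := hz; exact hgr e x hx)
      (quotRes (𝒩 := quotGr ℳ K) hy hreg.1 K.mkQ K.mkQ_surjective K.ker_mkQ.symm (fun e x hx => mk_mem_quotGr hx) F)
      (isMinimal_quotRes hy hreg.1 _ _ _ _ hF)
    refine ⟨G, hG, fun r => (hr r).trans (isGenLE_quotRes_iff hy hreg.1 _ _ _ _ F r), fun i b => ?_, fun i h => ?_⟩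
    · obtain ⟨c, hc⟩ := hc (i + 1) (Fin.natAdd (F.rk (i + 1)) b)
      erw [cone_deg_succ] at hc
      simp only [Fin.append_right] at hc
      have e : i + (y :: ys).length = i + 1 + ys.length := by simp; omega
      refine ⟨Fin.cast (congrArg G.rk e).symm c, ?_⟩
      have : ∀ (a b : ℕ) (h : a = b) (c : Fin (G.rk b)), G.deg a (Fin.cast (congrArg G.rk h).symm c) = G.deg b c := by
        intro a b h c
        subst h
        rfl
      rw [this _ _ e, hc]
      simp only [List.length_cons]
      push_cast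
      omega
    · have e : i + (y :: ys).length = i + 1 + ys.length := by simp; omega
      rw [e]
      refine hl (i + 1) fun l hl' => ?_
      obtain ⟨l, rfl⟩ : ∃ l', l = l' + 1 := ⟨l - 1, by omega⟩
      show F.rk (l + 1) + F.rk l = 0
      rw [h (l + 1) (by omega), h l (by omega)]

end List

end Groth.Agent.GrSyzMin
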