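import Groth.Agent.GrSyzMin.PD
import Groth.Agent.DRingKP.GlobalDim

/-!
Hilbert's syzygy theorem.
-/

set_option autoImplicit false
set_option linter.unusedSectionVars false
universe u

open scoped Classical
open CategoryTheory

noncomputable section

namespace Groth.Agent.GrSyzMin

variable {k : Type u} [Field k] {n : ℕ}

theorem pd_le_numVars (M : Type u) [AddCommGroup M] [Module (MvPolynomial (Fin n) k) M] :
    HasProjectiveDimensionLE (ModuleCat.of (MvPolynomial (Fin n) k) M) n := by
  refine DRingKP.pdLE_of_regular (fun p => ?_) n ?_ M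
  · exact IsRegularRing.isRegularLocalRing_localization p.asIdeal
  · rw [MvPolynomial.ringKrullDim_of_isNoetherianRing, ringKrullDim_eq_zero_of_field, zero_add, Nat.card_fin]

variable {M : Type u} [AddCommGroup M] [Module k M] [Module (MvPolynomial (Fin n) k) M]
  [IsScalarTower k (MvPolynomial (Fin n) k) M]
  {ℳ : ℤ → Submodule k M} [DirectSum.Decomposition ℳ] [SetLike.GradedSMul (GrSyz.stdGr k (Fin n)) ℳ]
  {F : GrSyz.FreeRes (GrSyz.stdGr k (Fin n)) ℳ}

theorem hasLengthLE_numVars (hF : F.IsMinimal (GrSyz.irrel (GrSyz.stdGr k (Fin n))).toIdeal) :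
    F.HasLengthLE n := (hasLengthLE_iff_pd hF n).2 (pd_le_numVars M)

end Groth.Agent.GrSyzMin
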