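import Groth.Agent.GrSyzMin.Regular
import Groth.Agent.GrSyzMin.Hilbert
import Groth.Agent.CechX.KoszulPoly

/-!
Regularity of modules of finite length; the socle gives a top syzygy.
-/

set_option autoImplicit false
set_option linter.unusedSectionVars false
set_option linter.style.haveILetI false
universe u

open scoped Classical
open DirectSum Groth.Agent.GrSyzHilb

noncomputable section

namespace Groth.Agent.GrSyzMin

variable {k : Type u} [Field k] {n : ℕ}

/-- The variables. -/
def vars (k : Type u) [Field k] (n : ℕ) : List (MvPolynomial (Fin n) k) :=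
  List.ofFn fun j : Fin n => (MvPolynomial.X j : MvPolynomial (Fin n) k)

lemma mem_stdGr_of_mem_vars {y : MvPolynomial (Fin n) k} (h : y ∈ vars k n) : y ∈ GrSyz.stdGr k (Fin n) 1 := by
  obtain ⟨j, rfl⟩ := List.mem_ofFn.1 h
  exact X_mem j

lemma ofList_vars : Ideal.ofList (vars k n) = (GrSyz.irrel (GrSyz.stdGr k (Fin n))).toIdeal := by
  refine le_antisymm (Ideal.span_le.2 fun y hy => Ideal.subset_span ⟨1, one_pos, mem_stdGr_of_mem_vars hy⟩) ?_
  intro p hp
  have h : Ideal.ofList (vars k n) = Ideal.span ((fun j => (MvPolynomial.X j : MvPolynomial (Fin n) k) ^ 1) '' Set.univ) := by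
    refine congrArg Ideal.span (Set.ext fun x => ?_)
    simp [vars, List.mem_ofFn]
  rw [h, CechX.mem_span_X_pow_iff]
  intro s hs
  by_contra hc
  push Not at hc
  have : s = 0 := Finsupp.ext fun j => by have := hc j (Set.mem_univ j); simpa [Nat.lt_one_iff] using this
  subst this
  exact hs (mem_irrel_iff.1 hp)

lemma length_vars : (vars k n).length = n := by simp [vars]

lemma isWeaklyRegular_vars (m : ℕ) :
    RingTheory.Sequence.IsWeaklyRegular (Fin m → MvPolynomial (Fin n) k) (vars k n) :=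
  ((TensorProduct.lid (MvPolynomial (Fin n) k) (Fin m → MvPolynomial (Fin n) k)).isWeaklyRegular_congr _).1
    ((CechX.isWeaklyRegular_X n).isWeaklyRegular_rTensor)

section Mod

variable {M : Type u} [AddCommGroup M] [Module k M] [Module (MvPolynomial (Fin n) k) M]
  [IsScalarTower k (MvPolynomial (Fin n) k) M]
  (ℳ : ℤ → Submodule k M) [DirectSum.Decomposition ℳ] [SetLike.GradedSMul (GrSyz.stdGr k (Fin n)) ℳ]

lemma exists_lower_bound [Module.Finite (MvPolynomial (Fin n) k) M] : ∃ a : ℤ, ∀ e < a, ℳ e = ⊥ := by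
  obtain ⟨m, deg, c, hc, hs⟩ := exists_homog_gens (n := n) ℳ (homog_top ℳ) Module.Finite.fg_top
  obtain ⟨a, ha⟩ := (Set.finite_range deg).bddBelow
  refine ⟨a, fun e he => eq_bot_iff.2 fun x hx => ?_⟩
  obtain ⟨v, hv, rfl⟩ := exists_lift (n := n) ℳ hc hx (by rw [Fintype.range_linearCombination, hs]; trivial)
  have : v = 0 := funext fun b =>
    eq_zero_of_deg_neg (by have := ha ⟨b, rfl⟩; omega) ((mem_vec deg).1 hv b)
  simp [this]

lemma comp_eq_zero_of_mem_span {e : ℤ} {x : M}
    (hx : x ∈ Submodule.span (MvPolynomial (Fin n) k) (⋃ (e' : ℤ) (_ : e ≤ e'), (ℳ e' : Set M))) :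
    ∀ j < e, comp ℳ j x = 0 := by
  induction hx using Submodule.span_induction with
  | mem y hy =>
    obtain ⟨e', he', hy⟩ := Set.mem_iUnion₂.1 hy
    exact fun j hj => comp_of_mem_ne ℳ hy (by omega)
  | zero => exact fun j _ => map_zero _
  | add a b _ _ ha hb => exact fun j hj => by rw [map_add, ha j hj, hb j hj, add_zero]
  | smul p a _ ha =>
    induction p using DirectSum.Decomposition.inductionOn (GrSyz.stdGr k (Fin n)) with
    | zero => exact fun j _ => by rw [zero_smul, map_zero]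
    | @homogeneous i q =>
      intro j hj
      rcases lt_or_ge i 0 with hi | hi
      · rw [eq_zero_of_deg_neg hi q.2, zero_smul, map_zero]
      · rw [comp_smul ℳ q.2, ha _ (by omega), smul_zero]
    | add q q' hq hq' => exact fun j hj => by rw [add_smul, map_add, hq j hj, hq' j hj, add_zero]

lemma exists_upper_bound (hM : IsFiniteLength (MvPolynomial (Fin n) k) M) : ∃ b : ℤ, ∀ e, b ≤ e → ℳ e = ⊥ := by
  haveI := (isFiniteLength_iff_isNoetherian_isArtinian.1 hM).2
  let N : ℕ →o (Submodule (MvPolynomial (Fin n) k) M)ᵒᵈ :=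
    { toFun := fun i => OrderDual.toDual (Submodule.span (MvPolynomial (Fin n) k) (⋃ (e' : ℤ) (_ : (i : ℤ) ≤ e'), (ℳ e' : Set M)))
      monotone' := fun i j hij => Submodule.span_mono (Set.biUnion_subset_biUnion_left fun e' (h : (j : ℤ) ≤ e') => show (i : ℤ) ≤ e' by omega) }
  obtain ⟨i, hi⟩ := IsArtinian.monotone_stabilizes N
  refine ⟨i, fun e he => eq_bot_iff.2 fun x hx => ?_⟩
  obtain ⟨j, rfl⟩ : ∃ j : ℕ, e = j := ⟨e.toNat, by omega⟩
  have h1 : x ∈ OrderDual.ofDual (N j) := Submodule.subset_span (Set.mem_iUnion₂.2 ⟨j, le_rfl, hx⟩)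
  rw [← hi j (by omega), hi (j + 1) (by omega)] at h1
  have := comp_eq_zero_of_mem_span ℳ h1 j (by push_cast; omega)
  rwa [comp_of_mem ℳ hx] at this

variable {ℳ}

theorem exists_res_concentrated [Module.Finite (MvPolynomial (Fin n) k) M] {d : ℤ}
    (hd : ∀ e, e ≠ d → ℳ e = ⊥) :
    ∃ G : GrSyz.FreeRes (GrSyz.stdGr k (Fin n)) ℳ, G.IsMinimal (GrSyz.irrel (GrSyz.stdGr k (Fin n))).toIdeal ∧
      G.IsGenLE d ∧ (ℳ d ≠ ⊥ → ∃ c, G.deg n c = d + n) := by
  obtain ⟨m, deg, c, hc, hs, hi⟩ := exists_irred_gens (n := n) ℳ (homog_top ℳ) Module.Finite.fg_top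
  have hdeg : ∀ b, deg b = d := fun b => by
    by_contra h
    have h0 : c b = 0 := by simpa [hd _ h] using hc b
    exact hi b (h0 ▸ Submodule.zero_mem _)
  have hkill : ∀ p ∈ (GrSyz.irrel (GrSyz.stdGr k (Fin n))).toIdeal, ∀ x : M, p • x = 0 := by
    intro p hp
    induction hp using Submodule.span_induction with
    | mem q hq =>
      obtain ⟨i, hi, hq⟩ := hq
      intro x
      induction x using DirectSum.Decomposition.inductionOn ℳ with
      | zero => rw [smul_zero]
      | @homogeneous j y =>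
        have h1 := SetLike.GradedSMul.smul_mem (A := GrSyz.stdGr k (Fin n)) hq y.2
        rw [vadd_eq_add] at h1
        by_cases hj : j = d
        · rwa [hd _ (by omega), Submodule.mem_bot] at h1
        · rw [show (y : M) = 0 from by simpa [hd _ hj] using y.2, smul_zero]
      | add a b ha hb => rw [smul_add, ha, hb, add_zero]
    | zero => exact fun x => zero_smul _ x
    | add p q _ _ hp hq => exact fun x => by rw [add_smul, hp, hq, add_zero]
    | smul a p _ hp => exact fun x => by rw [smul_eq_mul, mul_smul, hp, smul_zero]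
  have hker : LinearMap.ker (Fintype.linearCombination (MvPolynomial (Fin n) k) c) =
      Ideal.ofList (vars k n) • (⊤ : Submodule (MvPolynomial (Fin n) k) (Fin m → MvPolynomial (Fin n) k)) := by
    rw [ofList_vars]
    refine le_antisymm (fun v hv => ?_) (Submodule.smul_le.2 fun p hp v _ => ?_)
    · rw [← Finset.univ_sum_single v]
      refine Submodule.sum_mem _ fun b _ => ?_
      have h1 : Pi.single b (v b) = v b • (Pi.single b 1 : Fin m → MvPolynomial (Fin n) k) := by
        funext a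
        by_cases h : a = b
        · subst h; simp
        · simp [Pi.single_eq_of_ne h]
      rw [h1]
      exact Submodule.smul_mem_smul (mem_irrel_iff.2 (cst_of_lc_eq_zero ℳ hc hi hv b)) Submodule.mem_top
    · rw [LinearMap.mem_ker, map_smul, hkill p hp]
  obtain ⟨G, hG, hr, hdeg', -⟩ := exists_quotRes_list (𝒩 := ℳ) (vars k n) (fun y hy => mem_stdGr_of_mem_vars hy)
    (Fin m → MvPolynomial (Fin n) k) (vec deg) (isWeaklyRegular_vars m) (Fintype.linearCombination _ c)
    (LinearMap.range_eq_top.1 (by rw [Fintype.range_linearCombination, hs])) hker (fun e v hv => lc_mem ℳ hc hv)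
    (freeRes deg) (isMinimal_freeRes deg)
  refine ⟨G, hG, (hr d).2 fun i b => ?_, fun hne => ?_⟩
  · cases i with
    | zero =>
      show deg b ≤ d + (0 : ℕ)
      simp [hdeg b]
    | succ i => exact Fin.elim0 b
  · have hm : 0 < m := by
      rcases Nat.eq_zero_or_pos m with rfl | hm
      · refine absurd (eq_bot_iff.2 fun x _ => ?_) hne
        have := (Submodule.eq_top_iff'.1 hs x)
        rw [Set.range_eq_empty, Submodule.span_empty, Submodule.mem_bot] at this
        exact (Submodule.mem_bot _).2 this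
      · exact hm
    obtain ⟨b, hb⟩ := hdeg' 0 ⟨0, hm⟩
    have e : 0 + (vars k n).length = n := by rw [length_vars, zero_add]
    have key : ∀ (a : ℕ) (b' : Fin (G.rk a)), a = n → ∃ c, G.deg n c = G.deg a b' := by
      rintro a b' rfl
      exact ⟨b', rfl⟩
    obtain ⟨c', hc'⟩ := key _ b e
    refine ⟨c', ?_⟩
    rw [hc', hb, length_vars]
    exact congrArg (· + (n : ℤ)) (hdeg _)

/-- The top piece as a submodule. -/
def topPiece (d : ℤ) (h : ∀ e, d < e → ℳ e = ⊥) : Submodule (MvPolynomial (Fin n) k) M where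
  carrier := ℳ d
  add_mem' := Submodule.add_mem _
  zero_mem' := Submodule.zero_mem _
  smul_mem' p x hx := by
    induction p using DirectSum.Decomposition.inductionOn (GrSyz.stdGr k (Fin n)) with
    | zero => rw [zero_smul]; exact Submodule.zero_mem _
    | @homogeneous j q =>
      have h1 := SetLike.GradedSMul.smul_mem (A := GrSyz.stdGr k (Fin n)) q.2 hx
      rw [vadd_eq_add] at h1
      rcases lt_trichotomy j 0 with hj | rfl | hj
      · rw [eq_zero_of_deg_neg hj q.2, zero_smul]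
        exact Submodule.zero_mem _
      · rwa [zero_add] at h1
      · rw [h _ (by omega), Submodule.mem_bot] at h1
        rw [h1]
        exact Submodule.zero_mem _
    | add a b ha hb => rw [add_smul]; exact Submodule.add_mem _ ha hb

lemma homog_topPiece (d : ℤ) (h : ∀ e, d < e → ℳ e = ⊥) : Homog ℳ (topPiece (n := n) d h) := fun x hx e => by
  by_cases he : d = e
  · subst he
    rw [comp_of_mem ℳ (show x ∈ ℳ d from hx)]
    exact hx
  · rw [comp_of_mem_ne ℳ (show x ∈ ℳ d from hx) he]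
    exact Submodule.zero_mem _

lemma subGr_topPiece (d : ℤ) (h : ∀ e, d < e → ℳ e = ⊥) :
    ∀ e, e ≠ d → subGr ℳ (topPiece (n := n) d h) e = ⊥ := fun e he => eq_bot_iff.2 fun x hx => by
  refine (Submodule.mem_bot _).2 (Subtype.ext ?_)
  rw [← comp_of_mem ℳ (show (x : M) ∈ ℳ e from hx), comp_of_mem_ne ℳ (show (x : M) ∈ ℳ d from x.2) (Ne.symm he)]
  rfl

variable (ℳ)

theorem isRegLE_of_bound [Module.Finite (MvPolynomial (Fin n) k) M] (r : ℤ) (h : ∀ e, r < e → ℳ e = ⊥) :
    GrSyz.IsRegLE (GrSyz.stdGr k (Fin n)) ℳ (GrSyz.irrel (GrSyz.stdGr k (Fin n))).toIdeal r := by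
  suffices H : ∀ (m : ℕ) (M : Type u) [AddCommGroup M] [Module k M] [Module (MvPolynomial (Fin n) k) M]
      [IsScalarTower k (MvPolynomial (Fin n) k) M] [Module.Finite (MvPolynomial (Fin n) k) M]
      (ℳ : ℤ → Submodule k M) [DirectSum.Decomposition ℳ] [SetLike.GradedSMul (GrSyz.stdGr k (Fin n)) ℳ] (r : ℤ),
      (∀ e, r < e ∨ e ≤ r - m → ℳ e = ⊥) →
      GrSyz.IsRegLE (GrSyz.stdGr k (Fin n)) ℳ (GrSyz.irrel (GrSyz.stdGr k (Fin n))).toIdeal r by
    obtain ⟨a, ha⟩ := exists_lower_bound (n := n) ℳ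
    exact H (r - a + 1).toNat M ℳ r fun e he => he.elim (h e) fun he => ha e (by omega)
  intro m
  induction m with
  | zero =>
    intro M _ _ _ _ _ ℳ _ _ r h
    obtain ⟨G, hG, hr, -⟩ := exists_res_concentrated (n := n) (ℳ := ℳ) (d := r) fun e he => h e (by omega)
    exact ⟨G, hG, hr⟩
  | succ m ih =>
    intro M _ _ _ _ _ ℳ _ _ r h
    let K := topPiece (n := n) (ℳ := ℳ) r fun e he => h e (Or.inl he)
    have hK : Homog ℳ K := homog_topPiece r _
    letI := subDec ℳ K hK
    letI := quotDec ℳ K hK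
    haveI : Module.Finite (MvPolynomial (Fin n) k) K := Module.Finite.iff_fg.2 (IsNoetherian.noetherian K)
    obtain ⟨G, hG, hr, -⟩ := exists_res_concentrated (n := n) (ℳ := subGr ℳ K) (subGr_topPiece r _)
    have hq : GrSyz.IsRegLE (GrSyz.stdGr k (Fin n)) (quotGr ℳ K) (GrSyz.irrel (GrSyz.stdGr k (Fin n))).toIdeal (r - 1) := by
      refine ih (M ⧸ K) (quotGr ℳ K) (r - 1) fun e he => eq_bot_iff.2 ?_
      rintro _ ⟨x, hx, rfl⟩
      refine (Submodule.mem_bot _).2 ((Submodule.Quotient.mk_eq_zero K).2 ?_)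
      by_cases hre : e = r
      · subst hre; exact hx
      · have : x = 0 := by simpa [h e (by push_cast; omega)] using hx
        rw [this]
        exact Submodule.zero_mem _
    obtain ⟨Q, hQ, hQr⟩ := hq
    exact regLE_mid (subGr ℳ K) ℳ (quotGr ℳ K) (f := K.subtype) (g := K.mkQ) (δ := 0)
      (fun e x hx => by rw [add_zero]; exact hx) K.injective_subtype K.mkQ_surjective
      (by rw [Submodule.range_subtype, Submodule.ker_mkQ]) (fun e x hx => mk_mem_quotGr hx) r
      ⟨G, hG, by rwa [sub_zero]⟩ ⟨Q, hQ, fun i b => (hQr i b).trans (by omega)⟩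

variable {ℳ}

/-- a nonzero socle element of degree `d` gives a last syzygy of degree `d + n` -/
theorem exists_top_deg [Module.Finite (MvPolynomial (Fin n) k) M] (K : Submodule (MvPolynomial (Fin n) k) M)
    (hK : Homog ℳ K) {d : ℤ} (hKd : ∀ e, e ≠ d → subGr ℳ K e = ⊥) (hne : subGr ℳ K d ≠ ⊥)
    {F : GrSyz.FreeRes (GrSyz.stdGr k (Fin n)) ℳ} (hF : F.IsMinimal (GrSyz.irrel (GrSyz.stdGr k (Fin n))).toIdeal) :
    ∃ b, F.deg n b = d + n := by
  letI := subDec ℳ K hK
  letI := quotDec ℳ K hK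
  haveI : Module.Finite (MvPolynomial (Fin n) k) K := Module.Finite.iff_fg.2 (IsNoetherian.noetherian K)
  obtain ⟨G, hG, -, hc⟩ := exists_res_concentrated (n := n) (ℳ := subGr ℳ K) hKd
  obtain ⟨c, hc⟩ := hc hne
  have hfd : GrLC.IsGrHomDeg (subGr ℳ K) ℳ K.subtype 0 := fun e x hx => by rw [add_zero]; exact hx
  obtain ⟨φ⟩ := exists_cmap G F 0 K.subtype hfd
  obtain ⟨Q, hQ⟩ := exists_minimal (n := n) (quotGr ℳ K)
  by_contra hno
  push Not at hno
  refine not_mem_deg_of_supp (k := k) (j := d + (n : ℤ)) (fun x hx => ?_) c hc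
  refine eq_zero_of_van_cone φ K.injective_subtype K.mkQ_surjective
    (by rw [Submodule.range_subtype, Submodule.ker_mkQ]) (fun e x hx => mk_mem_quotGr (K := K) hx) hG hF
    ((van_congr Q (cone φ K.mkQ K.injective_subtype K.mkQ_surjective (by rw [Submodule.range_subtype, Submodule.ker_mkQ])
      (fun e x hx => mk_mem_quotGr (K := K) hx)) (n + 1) _).1
      (van_of_deg (F := Q) (n + 1) _ fun b => by have := b.isLt; have := hasLengthLE_numVars hQ (n + 1) (Nat.lt_succ_self n); omega))
    hx ?_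
  exact supp_eq_bot (fun b => by rw [add_zero]; exact hno b) (φ.bar_mem hx)

theorem reg_eq_endDeg [Module.Finite (MvPolynomial (Fin n) k) M] (hM : IsFiniteLength (MvPolynomial (Fin n) k) M) :
    GrSyz.reg (GrSyz.stdGr k (Fin n)) ℳ (GrSyz.irrel (GrSyz.stdGr k (Fin n))).toIdeal =
      GrLC.endDeg (fun e => (ℳ e).toAddSubgroup) := by
  have hne : ∀ e, (ℳ e).toAddSubgroup ≠ ⊥ ↔ ℳ e ≠ ⊥ := fun e => by
    rw [ne_eq, ne_eq, not_iff_not, Submodule.eq_bot_iff, AddSubgroup.eq_bot_iff_forall]
    rfl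
  refine iInf_int_eq _ _ fun r => ?_
  rw [GrLC.endDeg, iSup₂_le_iff]
  simp only [WithBot.coe_le_coe, WithTop.coe_le_coe, hne]
  refine ⟨fun hr => ?_, fun h => isRegLE_of_bound ℳ r fun e he => by_contra fun he' => by have := h e he'; omega⟩
  by_contra hc
  push Not at hc
  obtain ⟨e₀, he₀, hlt⟩ := hc
  obtain ⟨b, hb⟩ := exists_upper_bound ℳ hM
  obtain ⟨d, ⟨hd, hrd⟩, hmax⟩ := Int.exists_greatest_of_bdd (P := fun e => ℳ e ≠ ⊥ ∧ r < e)
    ⟨b, fun z hz => by by_contra hh; exact hz.1 (hb z (by omega))⟩ ⟨e₀, he₀, hlt⟩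
  have htop : ∀ e, d < e → ℳ e = ⊥ := fun e he => by_contra fun he' => by
    have := hmax e ⟨he', by omega⟩
    omega
  obtain ⟨F, hF, hFr⟩ := hr
  obtain ⟨c, hc⟩ := exists_top_deg (topPiece (n := n) d htop) (homog_topPiece d htop) (subGr_topPiece d htop) (by
    intro h0
    apply hd
    refine eq_bot_iff.2 fun x hx => ?_
    have := (Submodule.eq_bot_iff _).1 h0 ⟨x, hx⟩ hx
    exact (Submodule.mem_bot _).2 (congrArg Subtype.val this)) hF
  have := hFr n c
  omega

end Mod

end Groth.Agent.GrSyzMin
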