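import Groth.Agent.GrSyzMin.Minimal
import Groth.Prelude.Def_GrLC

/-!
Maps of graded free resolutions over maps of modules, and null homotopies.
-/

set_option autoImplicit false
set_option linter.unusedSectionVars false
universe u

open scoped Classical
open DirectSum Groth.Agent.GrSyzHilb

noncomputable section

namespace Groth.Agent.GrSyzMin

variable {k : Type u} [Field k] {n : ℕ}
variable {M : Type u} [AddCommGroup M] [Module k M] [Module (MvPolynomial (Fin n) k) M]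
  [IsScalarTower k (MvPolynomial (Fin n) k) M]
  {ℳ : ℤ → Submodule k M} [DirectSum.Decomposition ℳ] [SetLike.GradedSMul (GrSyz.stdGr k (Fin n)) ℳ]
variable {N : Type u} [AddCommGroup N] [Module k N] [Module (MvPolynomial (Fin n) k) N]
  [IsScalarTower k (MvPolynomial (Fin n) k) N]
  {𝒩 : ℤ → Submodule k N} [DirectSum.Decomposition 𝒩] [SetLike.GradedSMul (GrSyz.stdGr k (Fin n)) 𝒩]

/-- A map of resolutions over a map of modules of degree `δ`. -/
structure CMap (F : GrSyz.FreeRes (GrSyz.stdGr k (Fin n)) ℳ) (G : GrSyz.FreeRes (GrSyz.stdGr k (Fin n)) 𝒩)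
    (f : M →ₗ[MvPolynomial (Fin n) k] N) (δ : ℤ) where
  φ : ∀ i, Matrix (Fin (G.rk i)) (Fin (F.rk i)) (MvPolynomial (Fin n) k)
  hom : ∀ i, HMat (fun b => F.deg i b + δ) (G.deg i) (φ i)
  aug : ∀ b, G.augLin (fun a => φ 0 a b) = f (F.aug b)
  comm : ∀ i, G.d i * φ (i + 1) = φ i * F.d i

variable (F : GrSyz.FreeRes (GrSyz.stdGr k (Fin n)) ℳ) (G : GrSyz.FreeRes (GrSyz.stdGr k (Fin n)) 𝒩)

lemma mulVec_col {l m o : ℕ} (A : Matrix (Fin o) (Fin m) (MvPolynomial (Fin n) k))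
    (B : Matrix (Fin m) (Fin l) (MvPolynomial (Fin n) k)) (b : Fin l) :
    Matrix.mulVecLin A (fun c => B c b) = fun a => (A * B) a b := rfl

lemma augLin_mulVec {f : M →ₗ[MvPolynomial (Fin n) k] N} (A : Matrix (Fin (G.rk 0)) (Fin (F.rk 0)) (MvPolynomial (Fin n) k))
    (h : ∀ b, G.augLin (fun a => A a b) = f (F.aug b)) (v : Fin (F.rk 0) → MvPolynomial (Fin n) k) :
    G.augLin (Matrix.mulVecLin A v) = f (F.augLin v) := by
  rw [mulVecLin_eq]
  show G.augLin (Fintype.linearCombination _ _ v) = f (Fintype.linearCombination _ F.aug v)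
  simp only [Fintype.linearCombination_apply, map_sum, map_smul]
  exact Finset.sum_congr rfl fun b _ => congrArg (v b • ·) (h b)

lemma exists_aug_lift (f : M →ₗ[MvPolynomial (Fin n) k] N) (δ : ℤ) (hf : GrLC.IsGrHomDeg ℳ 𝒩 f δ) :
    ∃ A : Matrix (Fin (G.rk 0)) (Fin (F.rk 0)) (MvPolynomial (Fin n) k),
      HMat (fun b => F.deg 0 b + δ) (G.deg 0) A ∧ ∀ b, G.augLin (fun a => A a b) = f (F.aug b) :=
  exists_mat_lift 𝒩 G.aug_mem (fun b => f (F.aug b)) (fun b => hf _ _ (F.aug_mem b))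
    fun b => G.aug_surjective _

lemma hmat_d_shift (i : ℕ) (δ : ℤ) :
    HMat (fun b => F.deg (i + 1) b + δ) (fun a => F.deg i a + δ) (F.d i) := fun a b => by
  have := F.d_mem i a b
  rwa [add_sub_add_right_eq_sub]

variable (δ : ℤ)

/-- The data of one step. -/
def StepData (i : ℕ) : Type u :=
  {A : Matrix (Fin (G.rk i)) (Fin (F.rk i)) (MvPolynomial (Fin n) k) //
    HMat (fun b => F.deg i b + δ) (G.deg i) A ∧
      ∀ b, (fun a => (A * F.d i) a b) ∈ LinearMap.range (G.dLin i)}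

lemma exists_step {i : ℕ} (A : StepData F G δ i) : ∃ B : StepData F G δ (i + 1), G.d i * B.1 = A.1 * F.d i := by
  obtain ⟨A, hA, hr⟩ := A
  obtain ⟨B, hB, hB'⟩ := exists_mat_lift_mat (hmat_d G i) (hA.mul (hmat_d_shift F i δ)) hr
  refine ⟨⟨B, hB, fun b => ?_⟩, hB'⟩
  rw [← G.exact_succ i]
  show G.dLin i _ = 0
  rw [mulVec_col, ← Matrix.mul_assoc, hB', Matrix.mul_assoc, d_mul_d, Matrix.mul_zero]
  rfl

theorem exists_cmap (f : M →ₗ[MvPolynomial (Fin n) k] N) (hf : GrLC.IsGrHomDeg ℳ 𝒩 f δ) :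
    Nonempty (CMap F G f δ) := by
  obtain ⟨A, hA, hA'⟩ := exists_aug_lift F G f δ hf
  let A0 : StepData F G δ 0 := ⟨A, hA, fun b => by
    rw [← G.exact_zero]
    show G.augLin _ = 0
    rw [← mulVec_col, augLin_mulVec F G A hA']
    exact (congrArg f (col_mem_ker_zero F b)).trans (map_zero f)⟩
  let step : ∀ i, StepData F G δ i → StepData F G δ (i + 1) := fun i a => (exists_step F G δ a).choose
  let Φ : ∀ i, StepData F G δ i := fun i => Nat.rec A0 step i
  exact ⟨⟨fun i => (Φ i).1, fun i => (Φ i).2.1, hA', fun i => (exists_step F G δ (Φ i)).choose_spec⟩⟩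

/-- Null homotopy of a map over zero. -/
theorem exists_null {f : M →ₗ[MvPolynomial (Fin n) k] N} (φ : CMap F G f δ) (hf : f = 0) :
    ∃ h : ∀ i, Matrix (Fin (G.rk (i + 1))) (Fin (F.rk i)) (MvPolynomial (Fin n) k),
      (∀ i, HMat (fun b => F.deg i b + δ) (G.deg (i + 1)) (h i)) ∧ φ.φ 0 = G.d 0 * h 0 ∧
        ∀ i, φ.φ (i + 1) = G.d (i + 1) * h (i + 1) + h i * F.d i := by
  subst hf
  obtain ⟨h0, hh0, hh0'⟩ := exists_mat_lift_mat (hmat_d G 0) (φ.hom 0) (fun b => by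
    rw [← G.exact_zero]
    exact (φ.aug b).trans (LinearMap.zero_apply _))
  let T : ℕ → Type u := fun i => {h : Matrix (Fin (G.rk (i + 1))) (Fin (F.rk i)) (MvPolynomial (Fin n) k) //
    HMat (fun b => F.deg i b + δ) (G.deg (i + 1)) h ∧ (φ.φ i - G.d i * h) * F.d i = 0}
  have step : ∀ i (h : T i), ∃ h' : T (i + 1), φ.φ (i + 1) = G.d (i + 1) * h'.1 + h.1 * F.d i := by
    rintro i ⟨h, hh, hh'⟩
    obtain ⟨h', hh1, hh2⟩ := exists_mat_lift_mat (hmat_d G (i + 1))
      ((φ.hom (i + 1)).sub (hh.mul (hmat_d_shift F i δ))) (fun b => by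
        rw [← G.exact_succ i]
        show G.dLin i _ = 0
        rw [mulVec_col, Matrix.mul_sub, φ.comm, ← Matrix.mul_assoc, ← Matrix.sub_mul, hh']
        rfl)
    refine ⟨⟨h', hh1, ?_⟩, by rw [hh2]; abel⟩
    rw [hh2, sub_sub_cancel, Matrix.mul_assoc, d_mul_d, Matrix.mul_zero]
  let h : ∀ i, T i := fun i => Nat.rec
    ⟨h0, hh0, by rw [hh0', sub_self, Matrix.zero_mul]⟩ (fun i a => (step i a).choose) i
  exact ⟨fun i => (h i).1, fun i => (h i).2.1, hh0'.symm, fun i => (step i (h i)).choose_spec⟩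

end Groth.Agent.GrSyzMin
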