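import Groth.Agent.GrSyzMin.Reg

/-!
The cone of a map of resolutions over an injective map resolves the cokernel.
-/

set_option autoImplicit false
set_option linter.unusedSectionVars false
universe u

open scoped Classical
open DirectSum Groth.Agent.GrSyzHilb

noncomputable section

namespace Groth.Agent.GrSyzMin

variable {k : Type u} [Field k] {n : ℕ}

section Blocks

variable {R : Type*} [CommRing R] {p q l : ℕ}

/-- Two matrices side by side. -/
def hcat (A : Matrix (Fin l) (Fin p) R) (B : Matrix (Fin l) (Fin q) R) : Matrix (Fin l) (Fin (p + q)) R :=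
  Matrix.of fun a => Fin.append (A a) (B a)

/-- Two matrices one above the other. -/
def vcat (A : Matrix (Fin p) (Fin l) R) (B : Matrix (Fin q) (Fin l) R) : Matrix (Fin (p + q)) (Fin l) R :=
  Matrix.of (Fin.append (A : Fin p → Fin l → R) B)

lemma hcat_mulVec (A : Matrix (Fin l) (Fin p) R) (B : Matrix (Fin l) (Fin q) R) (y : Fin p → R) (w : Fin q → R) :
    Matrix.mulVec (hcat A B) (Fin.append y w) = Matrix.mulVec A y + Matrix.mulVec B w := by
  funext a
  simp [hcat, Matrix.mulVec, dotProduct, Fin.sum_univ_add]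

lemma vcat_mulVec (A : Matrix (Fin p) (Fin l) R) (B : Matrix (Fin q) (Fin l) R) (v : Fin l → R) :
    Matrix.mulVec (vcat A B) v = Fin.append (Matrix.mulVec A v) (Matrix.mulVec B v) := by
  funext a
  induction a using Fin.addCases with
  | left a => simp [vcat, Matrix.mulVec]
  | right a => simp [vcat, Matrix.mulVec]

lemma append_split (v : Fin (p + q) → R) :
    v = Fin.append (fun a => v (Fin.castAdd q a)) (fun a => v (Fin.natAdd p a)) := Fin.append_castAdd_natAdd.symm

lemma append_add_append (y y' : Fin p → R) (w w' : Fin q → R) :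
    Fin.append y w + Fin.append y' w' = Fin.append (y + y') (w + w') := by
  funext a
  induction a using Fin.addCases <;> simp

lemma append_eq_iff (y y' : Fin p → R) (w w' : Fin q → R) :
    Fin.append y w = Fin.append y' w' ↔ y = y' ∧ w = w' := by
  constructor
  · intro h
    exact ⟨funext fun a => by simpa using congrFun h (Fin.castAdd q a), funext fun a => by simpa using congrFun h (Fin.natAdd p a)⟩
  · rintro ⟨rfl, rfl⟩; rfl

lemma append_zero : Fin.append (0 : Fin p → R) (0 : Fin q → R) = 0 := by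
  funext a
  induction a using Fin.addCases <;> simp

end Blocks

lemma hmat_hcat {p q l : ℕ} {s : Fin p → ℤ} {s' : Fin q → ℤ} {t : Fin l → ℤ}
    {A : Matrix (Fin l) (Fin p) (MvPolynomial (Fin n) k)} {B : Matrix (Fin l) (Fin q) (MvPolynomial (Fin n) k)}
    (hA : HMat s t A) (hB : HMat s' t B) : HMat (Fin.append s s') t (hcat A B) := fun a b => by
  induction b using Fin.addCases with
  | left b => simpa [hcat] using hA a b
  | right b => simpa [hcat] using hB a b

lemma hmat_vcat {p q l : ℕ} {s : Fin l → ℤ} {t : Fin p → ℤ} {t' : Fin q → ℤ}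
    {A : Matrix (Fin p) (Fin l) (MvPolynomial (Fin n) k)} {B : Matrix (Fin q) (Fin l) (MvPolynomial (Fin n) k)}
    (hA : HMat s t A) (hB : HMat s t' B) : HMat s (Fin.append t t') (vcat A B) := fun a b => by
  induction a using Fin.addCases with
  | left a => simpa [vcat] using hA a b
  | right a => simpa [vcat] using hB a b

lemma hmat_zero {p l : ℕ} (s : Fin l → ℤ) (t : Fin p → ℤ) :
    HMat s t (0 : Matrix (Fin p) (Fin l) (MvPolynomial (Fin n) k)) := fun _ _ => Submodule.zero_mem _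

lemma HMat.neg {p l : ℕ} {s : Fin l → ℤ} {t : Fin p → ℤ} {A : Matrix (Fin p) (Fin l) (MvPolynomial (Fin n) k)}
    (hA : HMat s t A) : HMat s t (-A) := fun a b => Submodule.neg_mem _ (hA a b)

lemma bar_hcat {p q l : ℕ} (A : Matrix (Fin l) (Fin p) (MvPolynomial (Fin n) k))
    (B : Matrix (Fin l) (Fin q) (MvPolynomial (Fin n) k)) (y : Fin p → k) (w : Fin q → k) :
    bar (hcat A B) (Fin.append y w) = bar A y + bar B w := by
  funext a
  simp [bar_apply, hcat, Fin.sum_univ_add]

lemma bar_vcat {p q l : ℕ} (A : Matrix (Fin p) (Fin l) (MvPolynomial (Fin n) k))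
    (B : Matrix (Fin q) (Fin l) (MvPolynomial (Fin n) k)) (v : Fin l → k) :
    bar (vcat A B) v = Fin.append (bar A v) (bar B v) := by
  funext a
  induction a using Fin.addCases with
  | left a => simp [bar_apply, vcat]
  | right a => simp [bar_apply, vcat]

lemma bar_neg {p l : ℕ} (A : Matrix (Fin p) (Fin l) (MvPolynomial (Fin n) k)) (x : Fin l → k) :
    bar (-A) x = - bar A x := by
  funext a
  simp [bar_apply]

lemma append_mem_supp {p q : ℕ} {d : Fin p → ℤ} {e : Fin q → ℤ} {j : ℤ} {y : Fin p → k} {w : Fin q → k} :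
    Fin.append y w ∈ supp (Fin.append d e) j ↔ y ∈ supp d j ∧ w ∈ supp e j := by
  constructor
  · intro h
    exact ⟨fun b hb => by simpa using h (Fin.castAdd q b) (by simpa using hb),
      fun b hb => by simpa using h (Fin.natAdd p b) (by simpa using hb)⟩
  · rintro ⟨hy, hw⟩ b hb
    induction b using Fin.addCases with
    | left b => simpa using hy b (by simpa using hb)
    | right b => simpa using hw b (by simpa using hb)

section Cone

variable {M : Type u} [AddCommGroup M] [Module k M] [Module (MvPolynomial (Fin n) k) M]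
  [IsScalarTower k (MvPolynomial (Fin n) k) M]
  {ℳ : ℤ → Submodule k M} [DirectSum.Decomposition ℳ] [SetLike.GradedSMul (GrSyz.stdGr k (Fin n)) ℳ]
variable {N : Type u} [AddCommGroup N] [Module k N] [Module (MvPolynomial (Fin n) k) N]
  [IsScalarTower k (MvPolynomial (Fin n) k) N]
  {𝒩 : ℤ → Submodule k N} [DirectSum.Decomposition 𝒩] [SetLike.GradedSMul (GrSyz.stdGr k (Fin n)) 𝒩]
variable {C : Type u} [AddCommGroup C] [Module k C] [Module (MvPolynomial (Fin n) k) C]
  [IsScalarTower k (MvPolynomial (Fin n) k) C]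
  {𝒞 : ℤ → Submodule k C} [DirectSum.Decomposition 𝒞] [SetLike.GradedSMul (GrSyz.stdGr k (Fin n)) 𝒞]
variable {F : GrSyz.FreeRes (GrSyz.stdGr k (Fin n)) ℳ} {G : GrSyz.FreeRes (GrSyz.stdGr k (Fin n)) 𝒩}
variable {f : M →ₗ[MvPolynomial (Fin n) k] N} {δ : ℤ} (φ : CMap F G f δ)

def coneRk (F : GrSyz.FreeRes (GrSyz.stdGr k (Fin n)) ℳ) (G : GrSyz.FreeRes (GrSyz.stdGr k (Fin n)) 𝒩) : ℕ → ℕ
  | 0 => G.rk 0
  | i + 1 => G.rk (i + 1) + F.rk i

def coneDeg (F : GrSyz.FreeRes (GrSyz.stdGr k (Fin n)) ℳ) (G : GrSyz.FreeRes (GrSyz.stdGr k (Fin n)) 𝒩) (δ : ℤ) :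
    (i : ℕ) → Fin (coneRk F G i) → ℤ
  | 0 => G.deg 0
  | i + 1 => Fin.append (G.deg (i + 1)) (fun b => F.deg i b + δ)

def coneD : (i : ℕ) → Matrix (Fin (coneRk F G i)) (Fin (coneRk F G (i + 1))) (MvPolynomial (Fin n) k)
  | 0 => hcat (G.d 0) (φ.φ 0)
  | i + 1 => vcat (hcat (G.d (i + 1)) (φ.φ (i + 1))) (hcat 0 (-F.d i))

lemma coneD_succ_mulVec (i : ℕ) (y : Fin (G.rk (i + 1 + 1)) → MvPolynomial (Fin n) k)
    (w : Fin (F.rk (i + 1)) → MvPolynomial (Fin n) k) :
    Matrix.mulVec (coneD φ (i + 1)) (Fin.append y w) =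
      Fin.append (Matrix.mulVec (G.d (i + 1)) y + Matrix.mulVec (φ.φ (i + 1)) w) (- Matrix.mulVec (F.d i) w) := by
  show Matrix.mulVec (vcat (hcat (G.d (i + 1)) (φ.φ (i + 1))) (hcat 0 (-F.d i))) (Fin.append y w) = _
  rw [vcat_mulVec, hcat_mulVec, hcat_mulVec, Matrix.zero_mulVec, zero_add, Matrix.neg_mulVec]

lemma mulVec_comm (i : ℕ) (w : Fin (F.rk (i + 1)) → MvPolynomial (Fin n) k) :
    Matrix.mulVec (G.d i) (Matrix.mulVec (φ.φ (i + 1)) w) = Matrix.mulVec (φ.φ i) (Matrix.mulVec (F.d i) w) := by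
  rw [Matrix.mulVec_mulVec, Matrix.mulVec_mulVec, φ.comm]

lemma augG_φ (w : Fin (F.rk 0) → MvPolynomial (Fin n) k) :
    G.augLin (Matrix.mulVec (φ.φ 0) w) = f (F.augLin w) :=
  augLin_mulVec F G (φ.φ 0) φ.aug w

lemma mem_range_coneD_succ (i : ℕ) (y : Fin (G.rk (i + 1)) → MvPolynomial (Fin n) k)
    (w : Fin (F.rk i) → MvPolynomial (Fin n) k) (hw : ∃ w', w = Matrix.mulVec (F.d i) w')
    (h : Matrix.mulVec (G.d i) y + Matrix.mulVec (φ.φ i) w = 0) :
    Fin.append y w ∈ LinearMap.range (Matrix.mulVecLin (coneD φ (i + 1))) := by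
  obtain ⟨w', rfl⟩ := hw
  obtain ⟨y', hy'⟩ : y + Matrix.mulVec (φ.φ (i + 1)) w' ∈ LinearMap.range (G.dLin (i + 1)) := by
    rw [← G.exact_succ i]
    show Matrix.mulVec (G.d i) _ = 0
    rw [Matrix.mulVec_add, mulVec_comm]
    exact h
  refine ⟨Fin.append y' (-w'), ?_⟩
  refine (coneD_succ_mulVec φ i y' (-w')).trans ((append_eq_iff _ _ _ _).2 ⟨?_, by rw [Matrix.mulVec_neg, neg_neg]⟩)
  rw [show Matrix.mulVec (G.d (i + 1)) y' = y + Matrix.mulVec (φ.φ (i + 1)) w' from hy', Matrix.mulVec_neg]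
  abel

lemma range_le_ker_coneD (i : ℕ) (v : Fin (coneRk F G (i + 1 + 1)) → MvPolynomial (Fin n) k) :
    Matrix.mulVec (coneD φ i) (Matrix.mulVec (coneD φ (i + 1)) v) = 0 := by
  obtain ⟨y, w, rfl⟩ : ∃ y w, v = Fin.append y w := ⟨_, _, append_split (p := G.rk (i + 1 + 1)) (q := F.rk (i + 1)) v⟩
  have hG : ∀ (i : ℕ) y, Matrix.mulVec (G.d i) (Matrix.mulVec (G.d (i + 1)) y) = 0 := fun i y => by
    rw [Matrix.mulVec_mulVec, d_mul_d, Matrix.zero_mulVec]
  have hF : ∀ (i : ℕ) y, Matrix.mulVec (F.d i) (Matrix.mulVec (F.d (i + 1)) y) = 0 := fun i y => by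
    rw [Matrix.mulVec_mulVec, d_mul_d, Matrix.zero_mulVec]
  rw [coneD_succ_mulVec]
  cases i with
  | zero =>
    show Matrix.mulVec (hcat (G.d 0) (φ.φ 0)) (Fin.append _ _) = 0
    rw [hcat_mulVec, Matrix.mulVec_add, hG, mulVec_comm, Matrix.mulVec_neg]
    abel
  | succ i =>
    rw [coneD_succ_mulVec, Matrix.mulVec_add, hG, mulVec_comm, Matrix.mulVec_neg, Matrix.mulVec_neg, hF, neg_zero, neg_zero, zero_add, add_neg_cancel]
    exact append_zero

variable (g : N →ₗ[MvPolynomial (Fin n) k] C)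

/-- The cone resolution of the cokernel. -/
def cone (hf : Function.Injective f) (hg : Function.Surjective g) (hfg : LinearMap.range f = LinearMap.ker g)
    (hgr : ∀ (e : ℤ) (x : N), x ∈ 𝒩 e → g x ∈ 𝒞 e) : GrSyz.FreeRes (GrSyz.stdGr k (Fin n)) 𝒞 where
  rk := coneRk F G
  deg := coneDeg F G δ
  d := coneD φ
  aug b := g (G.aug b)
  d_mem := fun i => by
    cases i with
    | zero => exact hmat_hcat (hmat_d G 0) (φ.hom 0)
    | succ i =>
      exact hmat_vcat (hmat_hcat (hmat_d G (i + 1)) (φ.hom (i + 1)))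
        (hmat_hcat (hmat_zero _ _) (hmat_d_shift F i δ).neg)
  aug_mem b := hgr _ _ (G.aug_mem b)
  aug_surjective := by
    have : Fintype.linearCombination (MvPolynomial (Fin n) k) (fun b => g (G.aug b)) = g.comp G.augLin := by
      refine LinearMap.ext fun v => ?_
      simp [Fintype.linearCombination_apply, map_sum]
    show Function.Surjective (Fintype.linearCombination _ fun b => g (G.aug b))
    rw [this]
    exact hg.comp G.aug_surjective
  exact_zero := by
    have e : Fintype.linearCombination (MvPolynomial (Fin n) k) (fun b => g (G.aug b)) = g.comp G.augLin := by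
      refine LinearMap.ext fun v => ?_
      simp [Fintype.linearCombination_apply, map_sum]
    show LinearMap.ker (Fintype.linearCombination _ fun b => g (G.aug b)) = LinearMap.range (Matrix.mulVecLin (hcat (G.d 0) (φ.φ 0)))
    rw [e]
    refine le_antisymm (fun v hv => ?_) ?_
    · obtain ⟨m, hm⟩ : G.augLin v ∈ LinearMap.range f := hfg.symm ▸ (hv : g (G.augLin v) = 0)
      obtain ⟨w, rfl⟩ := F.aug_surjective m
      obtain ⟨y, hy⟩ : v - Matrix.mulVec (φ.φ 0) w ∈ LinearMap.range (G.dLin 0) := by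
        rw [← G.exact_zero]
        show G.augLin _ = 0
        rw [map_sub, augG_φ φ]
        exact sub_eq_zero.2 hm.symm
      refine ⟨Fin.append y w, ?_⟩
      show Matrix.mulVec (hcat (G.d 0) (φ.φ 0)) (Fin.append y w) = v
      rw [hcat_mulVec, show Matrix.mulVec (G.d 0) y = v - Matrix.mulVec (φ.φ 0) w from hy, sub_add_cancel]
    · rintro _ ⟨v, rfl⟩
      obtain ⟨y, w, rfl⟩ : ∃ y w, v = Fin.append y w := ⟨_, _, append_split v⟩
      rw [LinearMap.mem_ker, LinearMap.comp_apply]
      show g (G.augLin (Matrix.mulVec (hcat (G.d 0) (φ.φ 0)) (Fin.append y w))) = 0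
      rw [hcat_mulVec, map_add, augG_φ φ, show G.augLin (Matrix.mulVec (G.d 0) y) = 0 from
        (show Matrix.mulVecLin (G.d 0) y ∈ LinearMap.ker G.augLin from G.exact_zero.symm ▸ ⟨y, rfl⟩), zero_add]
      exact (show f (F.augLin w) ∈ LinearMap.ker g from hfg ▸ ⟨_, rfl⟩)
  exact_succ := fun i => by
    refine le_antisymm (fun v hv => ?_) ?_
    · obtain ⟨y, w, rfl⟩ : ∃ y w, v = Fin.append y w := ⟨_, _, append_split (p := G.rk (i + 1)) (q := F.rk i) v⟩
      cases i with
      | zero =>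
        have hv' : Matrix.mulVec (G.d 0) y + Matrix.mulVec (φ.φ 0) w = 0 :=
          (hcat_mulVec _ _ y w).symm.trans hv
        refine mem_range_coneD_succ φ 0 y w ?_ hv'
        have h0 : F.augLin w = 0 := by
          refine hf ?_
          have h1 := congrArg G.augLin hv'
          rwa [map_add, augG_φ φ, show G.augLin (Matrix.mulVec (G.d 0) y) = 0 from
            (show Matrix.mulVecLin (G.d 0) y ∈ LinearMap.ker G.augLin from G.exact_zero.symm ▸ ⟨y, rfl⟩), zero_add, map_zero, ← map_zero f] at h1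
        obtain ⟨w', hw'⟩ := (F.exact_zero ▸ h0 : w ∈ LinearMap.range (F.dLin 0))
        exact ⟨w', hw'.symm⟩
      | succ i =>
        have hv' := (coneD_succ_mulVec φ i y w).symm.trans hv
        replace hv' := (append_eq_iff _ _ _ _).1 (hv'.trans append_zero.symm)
        rw [neg_eq_zero] at hv'
        refine mem_range_coneD_succ φ (i + 1) y w ?_ hv'.1
        obtain ⟨w', hw'⟩ : w ∈ LinearMap.range (F.dLin (i + 1)) := F.exact_succ i ▸ hv'.2
        exact ⟨w', hw'.symm⟩
    · rintro _ ⟨v, rfl⟩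
      exact range_le_ker_coneD φ i v

end Cone

end Groth.Agent.GrSyzMin
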