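import Groth.Agent.GrSyzMin.RegularReg

/-!
The degree bound for the regularity of a Cohen–Macaulay graded quotient without linear forms.
-/

set_option autoImplicit false
set_option linter.unusedSectionVars false
set_option linter.style.haveILetI false
universe u

open scoped Classical
open DirectSum Groth.Agent.GrSyzHilb

noncomputable section

namespace Groth.Agent.GrSyzMin

variable {k : Type u} [Field k] {r : ℕ}
variable {N : Type u} [AddCommGroup N] [Module k N] [Module (MvPolynomial (Fin (r + 1)) k) N]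
  [IsScalarTower k (MvPolynomial (Fin (r + 1)) k) N]
  {𝒩 : ℤ → Submodule k N} [DirectSum.Decomposition 𝒩] [SetLike.GradedSMul (GrSyz.stdGr k (Fin (r + 1))) 𝒩]
  (ρ : MvPolynomial (Fin (r + 1)) k →ₗ[MvPolynomial (Fin (r + 1)) k] N)
  (hρ : ∀ (e : ℤ) (x : MvPolynomial (Fin (r + 1)) k), x ∈ GrSyz.stdGr k (Fin (r + 1)) e → ρ x ∈ 𝒩 e)

include hρ in
lemma comp_cyclic (e : ℤ) (p : MvPolynomial (Fin (r + 1)) k) :
    comp 𝒩 e (ρ p) = ρ (comp (GrSyz.stdGr k (Fin (r + 1))) e p) := by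
  induction p using DirectSum.Decomposition.inductionOn (GrSyz.stdGr k (Fin (r + 1))) with
  | zero => simp
  | @homogeneous j q =>
    by_cases h : j = e
    · subst h
      rw [comp_of_mem 𝒩 (hρ j _ q.2), comp_of_mem (GrSyz.stdGr k (Fin (r + 1))) q.2]
    · rw [comp_of_mem_ne 𝒩 (hρ j _ q.2) h, comp_of_mem_ne (GrSyz.stdGr k (Fin (r + 1))) q.2 h, map_zero]
  | add a b ha hb => simp only [map_add, ha, hb]

variable (hsurj : Function.Surjective ρ)

include hρ hsurj in
lemma exists_preimage_mem {e : ℤ} {x : N} (hx : x ∈ 𝒩 e) :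
    ∃ p ∈ GrSyz.stdGr k (Fin (r + 1)) e, ρ p = x := by
  obtain ⟨p, rfl⟩ := hsurj x
  exact ⟨_, comp_mem _ e p, by rw [← comp_cyclic ρ hρ, comp_of_mem 𝒩 hx]⟩

include hρ hsurj in
lemma cyclic_eq_bot_of_neg {e : ℤ} (he : e < 0) : 𝒩 e = ⊥ := eq_bot_iff.2 fun x hx => by
  obtain ⟨p, hp, rfl⟩ := exists_preimage_mem ρ hρ hsurj hx
  rw [eq_zero_of_deg_neg he hp, map_zero]
  exact Submodule.zero_mem _

include hρ hsurj in
lemma cyclic_succ_eq_bot {e : ℤ} (he : 0 ≤ e) (h : 𝒩 e = ⊥) : 𝒩 (e + 1) = ⊥ := eq_bot_iff.2 fun x hx => by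
  obtain ⟨p, hp, rfl⟩ := exists_preimage_mem ρ hρ hsurj hx
  have hmem : p ∈ Ideal.ofList (vars k (r + 1)) := by
    rw [ofList_vars, mem_irrel_iff]
    exact cst_eq_zero_of_ne (by omega) hp
  have hspan : Ideal.ofList (vars k (r + 1)) =
      Ideal.span (Set.range fun j : Fin (r + 1) => (MvPolynomial.X j : MvPolynomial (Fin (r + 1)) k)) :=
    congrArg Ideal.span (Set.ext fun y => by simp only [vars, List.mem_ofFn, Set.mem_ofPred_eq, Set.mem_range])
  rw [hspan] at hmem
  obtain ⟨c, hc⟩ := (Submodule.mem_span_range_iff_exists_fun _).1 hmem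
  rw [← comp_of_mem (GrSyz.stdGr k (Fin (r + 1))) hp, ← hc, map_sum, map_sum]
  refine Submodule.sum_mem _ fun j _ => ?_
  rw [smul_eq_mul, mul_comm, ← smul_eq_mul, comp_smul (GrSyz.stdGr k (Fin (r + 1))) (X_mem j), map_smul,
    show e + 1 - 1 = e by ring]
  have h0 : ρ (comp (GrSyz.stdGr k (Fin (r + 1))) e (c j)) = 0 := by
    simpa [h] using hρ e _ (comp_mem _ e (c j))
  rw [h0, smul_zero]
  exact Submodule.zero_mem _

include hρ hsurj in
lemma finite_piece (e : ℤ) : Module.Finite k (𝒩 e) :=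
  Module.Finite.of_surjective ((ρ.restrictScalars k).restrict (fun x hx => hρ e x hx) :
    GrSyz.stdGr k (Fin (r + 1)) e →ₗ[k] 𝒩 e) fun x => by
    obtain ⟨p, hp, hpx⟩ := exists_preimage_mem ρ hρ hsurj x.2
    exact ⟨⟨p, hp⟩, Subtype.ext hpx⟩

variable (t : ℕ)

include hρ hsurj in
lemma le_finrank_one (ys : List (MvPolynomial (Fin (r + 1)) k))
    (hker : ∀ p ∈ GrSyz.stdGr k (Fin (r + 1)) 1, ρ p = 0 → p ∈ Submodule.span k {y | y ∈ ys}) :
    r + 1 ≤ Module.finrank k (𝒩 1) + ys.length := by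
  haveI := finite_piece ρ hρ hsurj 1
  let L : GrSyz.stdGr k (Fin (r + 1)) 1 →ₗ[k] 𝒩 1 := (ρ.restrictScalars k).restrict fun x hx => hρ 1 x hx
  have h1 := LinearMap.finrank_range_add_finrank_ker L
  have h2 : Module.finrank k (GrSyz.stdGr k (Fin (r + 1)) 1) = r + 1 := by
    have := finrank_stdGr k r 1
    rw [if_pos zero_le_one, show Nat.choose (r + (1 : ℤ).toNat) r = r + 1 from Nat.choose_succ_self_right r] at this
    exact_mod_cast this
  have h3 : Module.finrank k (LinearMap.range L) ≤ Module.finrank k (𝒩 1) := Submodule.finrank_le _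
  have h4 : Module.finrank k (LinearMap.ker L) ≤ ys.length := by
    haveI : Module.Finite k (Submodule.span k {y | y ∈ ys}) := Module.Finite.span_of_finite k (List.finite_toSet ys)
    let f : LinearMap.ker L →ₗ[k] Submodule.span k {y | y ∈ ys} :=
      LinearMap.codRestrict _ ((Submodule.subtype _).comp (Submodule.subtype _))
        fun x => hker x.1.1 x.1.2 (congrArg Subtype.val (LinearMap.mem_ker.1 x.2))
    have hf : Function.Injective f := fun a b h => Subtype.ext (Subtype.ext (congrArg Subtype.val h :))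
    refine (LinearMap.finrank_le_finrank_of_injective hf).trans ?_
    have : ({y | y ∈ ys} : Set (MvPolynomial (Fin (r + 1)) k)) = (ys.toFinset : Set (MvPolynomial (Fin (r + 1)) k)) := by
      ext; simp
    rw [this]
    exact (finrank_span_finset_le_card _).trans ys.toFinset_card_le
  omega

include hρ hsurj in
theorem endDeg_add_le (ys : List (MvPolynomial (Fin (r + 1)) k))
    (hker : ∀ p ∈ GrSyz.stdGr k (Fin (r + 1)) 1, ρ p = 0 → p ∈ Submodule.span k {y | y ∈ ys})
    [Module.Finite (MvPolynomial (Fin (r + 1)) k) N] (ℓ : ℕ)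
    (hℓ : Module.length (MvPolynomial (Fin (r + 1)) k) N = (ℓ : ℕ∞)) :
    GrLC.endDeg (fun e => (𝒩 e).toAddSubgroup) + ((((r : ℤ) + 1 - (ys.length : ℤ) : ℤ) : WithTop ℤ) : WithBot (WithTop ℤ)) ≤
      (((ℓ : ℤ) : WithTop ℤ) : WithBot (WithTop ℤ)) := by
  have hfl : IsFiniteLength (MvPolynomial (Fin (r + 1)) k) N :=
    Module.length_ne_top_iff.1 (by rw [hℓ]; exact ENat.natCast_ne_top ℓ)
  have hne : ∀ e, (𝒩 e).toAddSubgroup ≠ ⊥ ↔ 𝒩 e ≠ ⊥ := fun e => by
    rw [ne_eq, ne_eq, not_iff_not, Submodule.eq_bot_iff, AddSubgroup.eq_bot_iff_forall]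
    rfl
  by_cases h0 : ∀ e, 𝒩 e = ⊥
  · have : GrLC.endDeg (fun e => (𝒩 e).toAddSubgroup) = ⊥ := by
      rw [GrLC.endDeg, eq_bot_iff]
      exact iSup₂_le fun e he => absurd (h0 e) ((hne e).1 he)
    rw [this, WithBot.bot_add]
    exact bot_le
  push Not at h0
  obtain ⟨b, hb⟩ := exists_upper_bound 𝒩 hfl
  obtain ⟨E, hE, hmax⟩ := Int.exists_greatest_of_bdd (P := fun e => 𝒩 e ≠ ⊥)
    ⟨b, fun z hz => by by_contra hh; exact hz (hb z (by omega))⟩ h0
  have hE0 : 0 ≤ E := by
    by_contra h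
    exact hE (cyclic_eq_bot_of_neg ρ hρ hsurj (by omega))
  have hpos : ∀ j : ℕ, (j : ℤ) ≤ E → 𝒩 j ≠ ⊥ := by
    intro j hj hbot
    have : ∀ i : ℕ, 𝒩 ((j : ℤ) + i) = ⊥ := by
      intro i
      induction i with
      | zero => simpa using hbot
      | succ i ih =>
        have := cyclic_succ_eq_bot ρ hρ hsurj (by omega) ih
        rw [show ((j : ℤ) + ((i + 1 : ℕ) : ℤ)) = (j : ℤ) + i + 1 by push_cast; ring]
        exact this
    have h := this (E - j).toNat
    rw [show (j : ℤ) + ((E - j).toNat : ℤ) = E by omega] at h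
    exact hE h
  obtain ⟨e, rfl⟩ : ∃ e : ℕ, E = e := ⟨E.toNat, by omega⟩
  have hsum := sum_finrank_le_length (k := k) (n := r + 1) (e + 1) N 𝒩 e fun e' he' => by_contra fun h => by
    have := hmax e' h
    omega
  rw [hℓ, Nat.cast_le] at hsum
  have hend : GrLC.endDeg (fun e => (𝒩 e).toAddSubgroup) ≤ (((e : ℤ) : WithTop ℤ) : WithBot (WithTop ℤ)) :=
    iSup₂_le fun e' he' => WithBot.coe_le_coe.2 (WithTop.coe_le_coe.2 (hmax e' ((hne e').1 he')))
  refine (add_le_add_left hend _).trans ?_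
  rw [← WithBot.coe_add, WithBot.coe_le_coe, ← WithTop.coe_add, WithTop.coe_le_coe]
  have hone := le_finrank_one ρ hρ hsurj ys hker
  have hp : ∀ i ∈ Finset.range (e + 1), 1 ≤ Module.finrank k (𝒩 ((e : ℤ) - i)) := fun i hi => by
    haveI := finite_piece ρ hρ hsurj ((e : ℤ) - i)
    rw [Submodule.one_le_finrank_iff]
    have hi' := Finset.mem_range.1 hi
    have h := hpos (e - i) (by omega)
    rwa [Nat.cast_sub (by omega)] at h
  cases e with
  | zero =>
    have hb1 : 𝒩 1 = ⊥ := by_contra fun h => by have := hmax 1 h; omega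
    rw [hb1, finrank_bot] at hone
    omega
  | succ e =>
    rw [← Finset.add_sum_erase _ _ (Finset.mem_range.2 (show e < e + 1 + 1 by omega))] at hsum
    have h5 := Finset.card_nsmul_le_sum ((Finset.range (e + 1 + 1)).erase e) (fun i => Module.finrank k (𝒩 (((e + 1 : ℕ) : ℤ) - i))) 1
      fun i hi => hp i (Finset.mem_of_mem_erase hi)
    rw [Finset.card_erase_of_mem (Finset.mem_range.2 (show e < e + 1 + 1 by omega)), Finset.card_range, smul_eq_mul, mul_one] at h5
    rw [show (((e + 1 : ℕ) : ℤ) - (e : ℤ)) = 1 by push_cast; ring] at hsum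
    omega

end Groth.Agent.GrSyzMin
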