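import Groth.Agent.GrSyzMin.FiniteLength

/-!
The length of a graded module bounds the dimensions of its pieces.
-/

set_option autoImplicit false
set_option linter.unusedSectionVars false
set_option linter.style.haveILetI false
universe u

open scoped Classical
open DirectSum Groth.Agent.GrSyzHilb

noncomputable section

namespace Groth.Agent.GrSyzMin

variable {k : Type u} [Field k] {n : ℕ}
variable {M : Type u} [AddCommGroup M] [Module k M] [Module (MvPolynomial (Fin n) k) M]
  [IsScalarTower k (MvPolynomial (Fin n) k) M]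
  (ℳ : ℤ → Submodule k M) [DirectSum.Decomposition ℳ] [SetLike.GradedSMul (GrSyz.stdGr k (Fin n)) ℳ]

lemma smul_eq_cst_smul {d : ℤ} (h : ∀ e, d < e → ℳ e = ⊥) (p : MvPolynomial (Fin n) k) {x : M} (hx : x ∈ ℳ d) :
    p • x = MvPolynomial.constantCoeff p • x := by
  induction p using DirectSum.Decomposition.inductionOn (GrSyz.stdGr k (Fin n)) with
  | zero => rw [zero_smul, map_zero, zero_smul]
  | @homogeneous j q =>
    have h1 := SetLike.GradedSMul.smul_mem (A := GrSyz.stdGr k (Fin n)) q.2 hx
    rw [vadd_eq_add] at h1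
    rcases lt_trichotomy j 0 with hj | rfl | hj
    · rw [eq_zero_of_deg_neg hj q.2, zero_smul, map_zero, zero_smul]
    · conv_lhs => rw [eq_C_of_deg_zero q.2, ← MvPolynomial.algebraMap_eq, algebraMap_smul]
    · rw [h _ (by omega), Submodule.mem_bot] at h1
      rw [h1, cst_eq_zero_of_ne (by omega) q.2, zero_smul]
  | add a b ha hb => rw [add_smul, map_add, add_smul, ha, hb]

lemma length_topPiece [Module.Finite (MvPolynomial (Fin n) k) M] (d : ℤ) (h : ∀ e, d < e → ℳ e = ⊥) :
    (Module.finrank k (ℳ d) : ℕ∞) = Module.length (MvPolynomial (Fin n) k) (topPiece (n := n) d h) := by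
  letI : Algebra (MvPolynomial (Fin n) k) k := (MvPolynomial.constantCoeff (R := k) (σ := Fin n)).toAlgebra
  haveI : IsScalarTower (MvPolynomial (Fin n) k) k (topPiece (n := n) d h) := ⟨fun p c x => by
    refine Subtype.ext ?_
    show (MvPolynomial.constantCoeff p * c) • (x : M) = p • (c • (x : M))
    rw [smul_eq_cst_smul ℳ h p (Submodule.smul_mem _ c x.2), mul_smul]⟩
  have hs : Function.Surjective (algebraMap (MvPolynomial (Fin n) k) k) := fun c =>
    ⟨MvPolynomial.C c, MvPolynomial.constantCoeff_C _ c⟩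
  haveI : Module.Finite (MvPolynomial (Fin n) k) (topPiece (n := n) d h) :=
    Module.Finite.iff_fg.2 (IsNoetherian.noetherian _)
  haveI : Module.Finite k (topPiece (n := n) d h) := Module.Finite.of_restrictScalars_finite (MvPolynomial (Fin n) k) k _
  rw [Module.length_eq_of_surjective (S := MvPolynomial (Fin n) k) (R := k) hs, Module.length_eq_finrank]
  let e : ℳ d ≃ₗ[k] topPiece (n := n) d h :=
    { toFun := fun x => ⟨x.1, x.2⟩
      invFun := fun x => ⟨x.1, x.2⟩
      map_add' := fun _ _ => rfl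
      map_smul' := fun _ _ => rfl
      left_inv := fun _ => rfl
      right_inv := fun _ => rfl }
  exact congrArg Nat.cast e.finrank_eq

theorem sum_finrank_le_length : ∀ (m : ℕ) (M : Type u) [AddCommGroup M] [Module k M] [Module (MvPolynomial (Fin n) k) M]
    [IsScalarTower k (MvPolynomial (Fin n) k) M] [Module.Finite (MvPolynomial (Fin n) k) M]
    (ℳ : ℤ → Submodule k M) [DirectSum.Decomposition ℳ] [SetLike.GradedSMul (GrSyz.stdGr k (Fin n)) ℳ] (r : ℤ),
    (∀ e, r < e → ℳ e = ⊥) →
    ((∑ i ∈ Finset.range m, Module.finrank k (ℳ (r - i)) : ℕ) : ℕ∞) ≤ Module.length (MvPolynomial (Fin n) k) M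
  | 0, _, _, _, _, _, _, _, _, _, _, _ => by simp
  | m + 1, M, _, _, _, _, _, ℳ, _, _, r, h => by
    let K := topPiece (n := n) (ℳ := ℳ) r h
    letI := quotDec ℳ K (homog_topPiece r h)
    have hz : ∀ (e : ℤ), e ≠ r → ∀ x ∈ ℳ e, x ∈ K → x = 0 := fun e he x hx hK => by
      rw [← comp_of_mem ℳ hx, comp_of_mem_ne ℳ (show x ∈ ℳ r from hK) (Ne.symm he)]
    have hq : ∀ e, r - 1 < e → quotGr ℳ K e = ⊥ := fun e he => eq_bot_iff.2 (by
      rintro _ ⟨x, hx, rfl⟩
      refine (Submodule.mem_bot _).2 ((Submodule.Quotient.mk_eq_zero K).2 ?_)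
      by_cases hre : e = r
      · subst hre; exact hx
      · have : x = 0 := by simpa [h e (by omega)] using hx
        rw [this]
        exact Submodule.zero_mem _)
    have ih := sum_finrank_le_length m (M ⧸ K) (quotGr ℳ K) (r - 1) hq
    have he : ∀ i : ℕ, Module.finrank k (quotGr ℳ K (r - 1 - i)) = Module.finrank k (ℳ (r - (i + 1 : ℕ))) := fun i => by
      rw [show r - 1 - (i : ℤ) = r - (i + 1 : ℕ) by push_cast; ring]
      refine (LinearEquiv.finrank_eq (LinearEquiv.ofBijective
        ((K.mkQ.restrictScalars k).restrict (fun x hx => mk_mem_quotGr hx)) ⟨?_, ?_⟩)).symm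
      · rw [injective_iff_map_eq_zero]
        intro x hx
        exact Subtype.ext (hz _ (by push_cast; omega) x.1 x.2 ((Submodule.Quotient.mk_eq_zero K).1 (congrArg Subtype.val hx)))
      · rintro ⟨_, x, hx, rfl⟩
        exact ⟨⟨x, hx⟩, rfl⟩
    rw [Finset.sum_range_succ', Nat.cast_zero, sub_zero, Nat.cast_add, length_topPiece (n := n) ℳ r h,
      Module.length_eq_add_of_exact K.subtype K.mkQ K.injective_subtype K.mkQ_surjective (LinearMap.exact_subtype_mkQ K),
      add_comm (Module.length (MvPolynomial (Fin n) k) K)]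
    refine add_le_add_left ?_ _
    rw [← Finset.sum_congr rfl fun i _ => he i]
    exact ih

end Groth.Agent.GrSyzMin
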