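import Groth.Prelude.Def_GrSyz
import Groth.Agent.GrSyzHilb.Basic
import Mathlib

/-!
Homogeneous vectors, families and matrices over a standard graded polynomial ring.
-/

set_option autoImplicit false
set_option linter.unusedSectionVars false
universe u

open scoped Classical
open DirectSum Groth.Agent.GrSyzHilb

noncomputable section

namespace Groth.Agent.GrSyzMin

variable {k : Type u} [Field k] {n : ℕ}


section Scalar

lemma cst_eq_zero_of_ne {d : ℤ} (hd : d ≠ 0) {p : (MvPolynomial (Fin n) k)} (hp : p ∈ (GrSyz.stdGr k (Fin n)) d) :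
    MvPolynomial.constantCoeff p = 0 := by
  by_contra h
  exact hd (by simpa using (((GrSyz.mem_stdGr_iff k (Fin n) d p).1 hp) (d := 0) h).symm)

lemma eq_C_of_deg_zero {p : (MvPolynomial (Fin n) k)} (hp : p ∈ (GrSyz.stdGr k (Fin n)) 0) : p = MvPolynomial.C (MvPolynomial.constantCoeff p) := by
  ext d
  rw [MvPolynomial.coeff_C]
  by_cases hd : d = 0
  · subst hd; simp [MvPolynomial.constantCoeff_eq]
  · rw [if_neg (fun h => hd h.symm)]
    by_contra h
    have h1 := ((GrSyz.mem_stdGr_iff k (Fin n) 0 p).1 hp) h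
    rw [Finsupp.weight_apply, Finsupp.sum_fintype _ _ (by simp)] at h1
    refine hd (Finsupp.ext fun i => ?_)
    have h2 : ((∑ j, d j : ℕ) : ℤ) = 0 := by push_cast; simpa using h1
    have h3 : d i ≤ ∑ j, d j := Finset.single_le_sum (fun j _ => Nat.zero_le _) (Finset.mem_univ i)
    simp only [Finsupp.coe_zero, Pi.zero_apply]
    omega

lemma eq_zero_of_deg_neg {d : ℤ} (hd : d < 0) {p : (MvPolynomial (Fin n) k)} (hp : p ∈ (GrSyz.stdGr k (Fin n)) d) : p = 0 := by
  ext e
  by_contra h
  have h1 := ((GrSyz.mem_stdGr_iff k (Fin n) d p).1 hp) (by simpa using h)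
  rw [Finsupp.weight_apply, Finsupp.sum_fintype _ _ (by simp)] at h1
  have h2 : (0 : ℤ) ≤ ∑ j, e j • (1 : ℤ) := Finset.sum_nonneg fun j _ => by simp
  omega

lemma X_mem (i : Fin n) : (MvPolynomial.X i : (MvPolynomial (Fin n) k)) ∈ (GrSyz.stdGr k (Fin n)) 1 := by
  rw [GrSyz.mem_stdGr_iff]
  exact MvPolynomial.isWeightedHomogeneous_X k (fun _ : Fin n => (1 : ℤ)) i

lemma mem_irrel_iff {p : (MvPolynomial (Fin n) k)} : p ∈ (GrSyz.irrel (GrSyz.stdGr k (Fin n))).toIdeal ↔ MvPolynomial.constantCoeff p = 0 := by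
  constructor
  · intro h
    have : (GrSyz.irrel (GrSyz.stdGr k (Fin n))).toIdeal ≤ RingHom.ker (MvPolynomial.constantCoeff : (MvPolynomial (Fin n) k) →+* k) :=
      Ideal.span_le.2 fun q ⟨d, hd, hq⟩ => cst_eq_zero_of_ne (by omega) hq
    exact this h
  · intro h
    rw [← DirectSum.sum_support_decompose (GrSyz.stdGr k (Fin n)) p]
    refine Ideal.sum_mem _ fun d _ => ?_
    set q := (DirectSum.decompose (GrSyz.stdGr k (Fin n)) p d : (MvPolynomial (Fin n) k)) with hq
    have hm : q ∈ (GrSyz.stdGr k (Fin n)) d := (DirectSum.decompose (GrSyz.stdGr k (Fin n)) p d).2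
    rcases lt_trichotomy d 0 with hd | hd | hd
    · rw [eq_zero_of_deg_neg hd hm]
      exact Ideal.zero_mem _
    · subst hd
      have e : ∀ (s : Finset ℤ) (f : ℤ → (MvPolynomial (Fin n) k)), (∀ i, f i ∈ (GrSyz.stdGr k (Fin n)) i) → (0 : ℤ) ∈ s →
          MvPolynomial.constantCoeff (∑ i ∈ s, f i) = MvPolynomial.constantCoeff (f 0) := by
        intro s f hf h0
        rw [map_sum, Finset.sum_eq_single_of_mem 0 h0 fun i _ hi => cst_eq_zero_of_ne hi (hf i)]
      have e2 : MvPolynomial.constantCoeff q = 0 := by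
        by_cases h0 : (0 : ℤ) ∈ (DirectSum.decompose (GrSyz.stdGr k (Fin n)) p).support
        · rw [← h]
          conv_rhs => rw [← DirectSum.sum_support_decompose (GrSyz.stdGr k (Fin n)) p]
          exact (e _ (fun i => (DirectSum.decompose (GrSyz.stdGr k (Fin n)) p i : (MvPolynomial (Fin n) k))) (fun i => (DirectSum.decompose (GrSyz.stdGr k (Fin n)) p i).2) h0).symm
        · rw [hq, DFinsupp.notMem_support_iff.1 h0]
          simp
      rw [eq_C_of_deg_zero hm, e2, map_zero]
      exact Ideal.zero_mem _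
    · exact Ideal.subset_span ⟨d, hd, hm⟩

lemma cst_comp_zero (p : (MvPolynomial (Fin n) k)) : MvPolynomial.constantCoeff (comp (GrSyz.stdGr k (Fin n)) 0 p) = MvPolynomial.constantCoeff p := by
  induction p using DirectSum.Decomposition.inductionOn (GrSyz.stdGr k (Fin n)) with
  | zero => simp
  | @homogeneous j q =>
    by_cases h : j = 0
    · subst h; rw [comp_of_mem (GrSyz.stdGr k (Fin n)) q.2]
    · rw [comp_of_mem_ne (GrSyz.stdGr k (Fin n)) q.2 h, map_zero, cst_eq_zero_of_ne h q.2]
  | add a b ha hb => simp only [map_add, ha, hb]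

end Scalar

section Vec

variable {m : ℕ} (deg : Fin m → ℤ)

/-- Homogeneous vectors of degree `e` in the free module with basis degrees `deg`. -/
def vec (e : ℤ) : Submodule k (Fin m → (MvPolynomial (Fin n) k)) :=
  Submodule.pi Set.univ fun b => (GrSyz.stdGr k (Fin n)) (e - deg b)

lemma mem_vec {e : ℤ} {v : Fin m → (MvPolynomial (Fin n) k)} : v ∈ vec deg e ↔ ∀ b, v b ∈ (GrSyz.stdGr k (Fin n)) (e - deg b) := by
  simp [vec]

def vecSingle (b : Fin m) (e : ℤ) : (GrSyz.stdGr k (Fin n)) e →ₗ[k] vec (k := k) (n := n) deg (e + deg b) :=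
  LinearMap.codRestrict _ ((LinearMap.single k (fun _ : Fin m => (MvPolynomial (Fin n) k)) b).comp (Submodule.subtype _))
    fun p => (mem_vec deg).2 fun b' => by
      by_cases h : b' = b
      · subst h; simp
      · simp [Pi.single_eq_of_ne h]

def vecDecAux : (Fin m → (MvPolynomial (Fin n) k)) →ₗ[k] ⨁ e, vec (k := k) (n := n) deg e :=
  ∑ b, (DirectSum.toModule k ℤ _ fun e => (DirectSum.lof k ℤ (fun e => vec (k := k) (n := n) deg e) (e + deg b)).comp (vecSingle deg b e)) ∘ₗ
    (DirectSum.decomposeLinearEquiv (GrSyz.stdGr k (Fin n))).toLinearMap ∘ₗ (LinearMap.proj b)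

lemma vecDecAux_apply (v : Fin m → (MvPolynomial (Fin n) k)) : vecDecAux deg v = ∑ b,
    DirectSum.toModule k ℤ _ (fun e => (DirectSum.lof k ℤ (fun e => vec (k := k) (n := n) deg e) (e + deg b)).comp (vecSingle deg b e))
      (DirectSum.decompose (GrSyz.stdGr k (Fin n)) (v b)) := by
  simp [vecDecAux, DirectSum.decomposeLinearEquiv_apply]

lemma vecDecAux_of_mem {e : ℤ} {v : Fin m → (MvPolynomial (Fin n) k)} (hv : v ∈ vec deg e) :
    vecDecAux deg v = DirectSum.lof k ℤ _ e ⟨v, hv⟩ := by
  have key : (⟨v, hv⟩ : vec (k := k) (n := n) deg e) =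
      ∑ b, ⟨Pi.single b (v b), (mem_vec deg).2 fun b' => by
        by_cases h : b' = b
        · subst h; simpa using (mem_vec deg).1 hv b'
        · simp [Pi.single_eq_of_ne h]⟩ := by
    refine Subtype.ext ?_
    rw [AddSubmonoidClass.coe_finsetSum]
    exact (Finset.univ_sum_single v).symm
  rw [vecDecAux_apply, key, map_sum]
  refine Finset.sum_congr rfl fun b _ => ?_
  rw [DirectSum.decompose_of_mem (GrSyz.stdGr k (Fin n)) ((mem_vec deg).1 hv b), ← DirectSum.lof_eq_of k, DirectSum.toModule_lof]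
  rw [LinearMap.comp_apply]
  have : ∀ (d d' : ℤ) (_ : d = d') (x : vec (k := k) (n := n) deg d) (y : vec (k := k) (n := n) deg d'),
      (x : Fin m → (MvPolynomial (Fin n) k)) = y → DirectSum.lof k ℤ (fun e => vec (k := k) (n := n) deg e) d x = DirectSum.lof k ℤ _ d' y := by
    intro d d' h x y hxy
    subst h
    rw [Subtype.ext hxy]
  exact this _ _ (by ring) _ _ rfl

instance vecDecomposition : DirectSum.Decomposition (vec (k := k) (n := n) deg) :=
  DirectSum.Decomposition.ofLinearMap _ (vecDecAux deg)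
    (by
      refine LinearMap.ext fun v => ?_
      rw [LinearMap.comp_apply, vecDecAux_apply, map_sum, LinearMap.id_apply]
      conv_rhs => rw [← Finset.univ_sum_single v]
      refine Finset.sum_congr rfl fun b _ => ?_
      generalize v b = p
      induction p using DirectSum.Decomposition.inductionOn (GrSyz.stdGr k (Fin n)) with
      | zero => simp
      | @homogeneous j q =>
        rw [DirectSum.decompose_coe, ← DirectSum.lof_eq_of k, DirectSum.toModule_lof, LinearMap.comp_apply,
          DirectSum.lof_eq_of, DirectSum.coeLinearMap_of]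
        rfl
      | add a c ha hc => rw [DirectSum.decompose_add, map_add, map_add, ha, hc, Pi.single_add])
    (by
      refine DirectSum.linearMap_ext k fun e => LinearMap.ext fun x => ?_
      rw [LinearMap.comp_apply, LinearMap.comp_apply, DirectSum.lof_eq_of, DirectSum.coeLinearMap_of, LinearMap.comp_apply, LinearMap.id_apply]
      exact vecDecAux_of_mem deg x.2)

instance vecGradedSMul : SetLike.GradedSMul (GrSyz.stdGr k (Fin n)) (vec (k := k) (n := n) deg) where
  smul_mem {d e p v} hp hv := (mem_vec deg).2 fun b => by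
    rw [vadd_eq_add, add_sub_assoc]
    exact SetLike.mul_mem_graded hp ((mem_vec deg).1 hv b)

lemma comp_vec_apply (e : ℤ) (v : Fin m → (MvPolynomial (Fin n) k)) (b : Fin m) :
    comp (vec deg) e v b = comp (GrSyz.stdGr k (Fin n)) (e - deg b) (v b) := by
  induction v using DirectSum.Decomposition.inductionOn (vec (k := k) (n := n) deg) with
  | zero => simp
  | @homogeneous j x =>
    by_cases h : j = e
    · subst h
      rw [comp_of_mem (vec deg) x.2, comp_of_mem (GrSyz.stdGr k (Fin n)) ((mem_vec deg).1 x.2 b)]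
    · rw [comp_of_mem_ne (vec deg) x.2 h, comp_of_mem_ne (GrSyz.stdGr k (Fin n)) ((mem_vec deg).1 x.2 b) (by omega)]
      rfl
  | add a c ha hc => simp only [map_add, Pi.add_apply, ha, hc]

end Vec

section Family

variable {M : Type u} [AddCommGroup M] [Module k M] [Module (MvPolynomial (Fin n) k) M] [IsScalarTower k (MvPolynomial (Fin n) k) M]
  (ℳ : ℤ → Submodule k M) [DirectSum.Decomposition ℳ] [SetLike.GradedSMul (GrSyz.stdGr k (Fin n)) ℳ]

/-- A submodule containing the homogeneous components of its elements. -/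
def Homog (K : Submodule (MvPolynomial (Fin n) k) M) : Prop := ∀ x ∈ K, ∀ e, comp ℳ e x ∈ K

lemma homog_top : Homog ℳ (⊤ : Submodule (MvPolynomial (Fin n) k) M) := fun _ _ _ => Submodule.mem_top

variable {m : ℕ} {deg : Fin m → ℤ} {c : Fin m → M}

lemma lc_mem (hc : ∀ b, c b ∈ ℳ (deg b)) {e : ℤ} {v : Fin m → (MvPolynomial (Fin n) k)} (hv : v ∈ vec deg e) :
    Fintype.linearCombination (MvPolynomial (Fin n) k) c v ∈ ℳ e := by
  rw [Fintype.linearCombination_apply]
  refine Submodule.sum_mem _ fun b _ => ?_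
  have := SetLike.GradedSMul.smul_mem (A := (GrSyz.stdGr k (Fin n))) ((mem_vec deg).1 hv b) (hc b)
  rwa [vadd_eq_add, sub_add_cancel] at this

lemma comp_lc (hc : ∀ b, c b ∈ ℳ (deg b)) (e : ℤ) (v : Fin m → (MvPolynomial (Fin n) k)) :
    comp ℳ e (Fintype.linearCombination (MvPolynomial (Fin n) k) c v) = Fintype.linearCombination (MvPolynomial (Fin n) k) c (comp (vec deg) e v) := by
  induction v using DirectSum.Decomposition.inductionOn (vec (k := k) (n := n) deg) with
  | zero => simp
  | @homogeneous j x =>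
    by_cases h : j = e
    · subst h
      rw [comp_of_mem ℳ (lc_mem ℳ hc x.2), comp_of_mem (vec deg) x.2]
    · rw [comp_of_mem_ne ℳ (lc_mem ℳ hc x.2) h, comp_of_mem_ne (vec deg) x.2 h, map_zero]
  | add a b ha hb => simp only [map_add, ha, hb]

lemma exists_lift (hc : ∀ b, c b ∈ ℳ (deg b)) {e : ℤ} {x : M} (hx : x ∈ ℳ e)
    (hs : x ∈ LinearMap.range (Fintype.linearCombination (MvPolynomial (Fin n) k) c)) :
    ∃ v ∈ vec deg e, Fintype.linearCombination (MvPolynomial (Fin n) k) c v = x := by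
  obtain ⟨v, rfl⟩ := hs
  exact ⟨comp (vec deg) e v, comp_mem _ e v, by rw [← comp_lc ℳ hc, comp_of_mem ℳ hx]⟩

lemma homog_ker (hc : ∀ b, c b ∈ ℳ (deg b)) :
    Homog (vec deg) (LinearMap.ker (Fintype.linearCombination (MvPolynomial (Fin n) k) c)) := fun v hv e => by
  rw [LinearMap.mem_ker] at hv ⊢
  rw [← comp_lc ℳ hc, hv, map_zero]

lemma range_lc (c : Fin m → M) : LinearMap.range (Fintype.linearCombination (MvPolynomial (Fin n) k) c) = Submodule.span (MvPolynomial (Fin n) k) (Set.range c) :=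
  Fintype.range_linearCombination (MvPolynomial (Fin n) k) c

/-- No member lies in the span of the others. -/
def Irred (c : Fin m → M) : Prop := ∀ b, c b ∉ Submodule.span (MvPolynomial (Fin n) k) (c '' {b' | b' ≠ b})

lemma lc_ne {b : Fin m} {v : Fin m → (MvPolynomial (Fin n) k)} :
    Fintype.linearCombination (MvPolynomial (Fin n) k) c v - v b • c b ∈ Submodule.span (MvPolynomial (Fin n) k) (c '' {b' | b' ≠ b}) := by
  rw [Fintype.linearCombination_apply, ← Finset.sum_erase_add _ _ (Finset.mem_univ b), add_sub_cancel_right]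
  exact Submodule.sum_mem _ fun b' hb' => Submodule.smul_mem _ _
    (Submodule.subset_span ⟨b', (Finset.mem_erase.1 hb').1, rfl⟩)

lemma cst_of_lc_eq_zero (hc : ∀ b, c b ∈ ℳ (deg b)) (hi : Irred (k := k) (n := n) c) {v : Fin m → (MvPolynomial (Fin n) k)}
    (hv : Fintype.linearCombination (MvPolynomial (Fin n) k) c v = 0) (b : Fin m) : MvPolynomial.constantCoeff (v b) = 0 := by
  by_contra h
  set w := comp (vec deg) (deg b) v with hw
  have h0 : Fintype.linearCombination (MvPolynomial (Fin n) k) c w = 0 := by rw [hw, ← comp_lc ℳ hc, hv, map_zero]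
  have hwb : w b = MvPolynomial.C (MvPolynomial.constantCoeff (v b)) := by
    have h1 : w b = comp (GrSyz.stdGr k (Fin n)) 0 (v b) := by rw [hw, comp_vec_apply, sub_self]
    rw [h1, ← cst_comp_zero (v b)]
    exact eq_C_of_deg_zero (comp_mem (GrSyz.stdGr k (Fin n)) 0 _)
  have h2 := lc_ne (c := c) (b := b) (v := w)
  rw [h0, zero_sub, Submodule.neg_mem_iff, hwb] at h2
  have h3 := Submodule.smul_mem _ (MvPolynomial.C (MvPolynomial.constantCoeff (v b))⁻¹ : (MvPolynomial (Fin n) k)) h2
  rw [smul_smul, ← map_mul, inv_mul_cancel₀ h, map_one, one_smul] at h3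
  exact hi b h3

lemma irred_of_cst (h : ∀ v : Fin m → (MvPolynomial (Fin n) k), Fintype.linearCombination (MvPolynomial (Fin n) k) c v = 0 → ∀ b, MvPolynomial.constantCoeff (v b) = 0) :
    Irred (k := k) (n := n) c := by
  intro b hb
  obtain ⟨l, hl, hl'⟩ := (Finsupp.mem_span_image_iff_linearCombination (MvPolynomial (Fin n) k)).1 hb
  have hlb : l b = 0 := by
    by_contra h1
    exact hl (Finsupp.mem_support_iff.2 h1) rfl
  have := h ((l : Fin m → (MvPolynomial (Fin n) k)) - Pi.single b 1) (by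
    rw [map_sub, Fintype.linearCombination_apply_single, one_smul, sub_eq_zero, ← hl',
      Finsupp.linearCombination_apply, Finsupp.sum_fintype _ _ (by simp), Fintype.linearCombination_apply]) b
  simp [hlb] at this

end Family

section Gens

variable {M : Type u} [AddCommGroup M] [Module k M] [Module (MvPolynomial (Fin n) k) M] [IsScalarTower k (MvPolynomial (Fin n) k) M]
  (ℳ : ℤ → Submodule k M) [DirectSum.Decomposition ℳ] [SetLike.GradedSMul (GrSyz.stdGr k (Fin n)) ℳ]

lemma exists_homog_gens {K : Submodule (MvPolynomial (Fin n) k) M} (hK : Homog ℳ K) (hfg : K.FG) :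
    ∃ (m : ℕ) (deg : Fin m → ℤ) (c : Fin m → M), (∀ b, c b ∈ ℳ (deg b)) ∧ Submodule.span (MvPolynomial (Fin n) k) (Set.range c) = K := by
  obtain ⟨s, rfl⟩ := hfg
  let S : Finset (Σ x : M, ℤ) := s.sigma fun x => (DirectSum.decompose ℳ x).support
  refine ⟨S.card, fun b => (S.equivFin.symm b).1.2, fun b => comp ℳ (S.equivFin.symm b).1.2 (S.equivFin.symm b).1.1,
    fun b => comp_mem ℳ _ _, le_antisymm (Submodule.span_le.2 ?_) (Submodule.span_le.2 ?_)⟩
  · rintro _ ⟨b, rfl⟩
    exact hK _ (Submodule.subset_span (Finset.mem_sigma.1 (S.equivFin.symm b).2).1) _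
  · intro x hx
    rw [← DirectSum.sum_support_decompose ℳ x]
    refine Submodule.sum_mem _ fun e he => Submodule.subset_span ⟨S.equivFin ⟨⟨x, e⟩, Finset.mem_sigma.2 ⟨hx, he⟩⟩, ?_⟩
    show comp ℳ _ _ = _
    rw [Equiv.symm_apply_apply]
    rfl

theorem exists_irred_gens {K : Submodule (MvPolynomial (Fin n) k) M} (hK : Homog ℳ K) (hfg : K.FG) :
    ∃ (m : ℕ) (deg : Fin m → ℤ) (c : Fin m → M), (∀ b, c b ∈ ℳ (deg b)) ∧ Submodule.span (MvPolynomial (Fin n) k) (Set.range c) = K ∧
      Irred (k := k) (n := n) c := by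
  have hex := exists_homog_gens ℳ hK hfg
  obtain ⟨deg, c, hc, hs⟩ := Nat.find_spec hex
  refine ⟨_, deg, c, hc, hs, fun b hb => ?_⟩
  generalize hm : Nat.find hex = m at deg c hc hs b
  obtain ⟨l, rfl⟩ : ∃ l, m = l + 1 := ⟨m - 1, by have := b.pos; omega⟩
  refine Nat.find_min hex (m := l) (by omega) ⟨fun j => deg (b.succAbove j), fun j => c (b.succAbove j), fun j => hc _, ?_⟩
  have hr : Set.range (fun j => c (b.succAbove j)) = c '' {b' | b' ≠ b} := by
    rw [show (fun j => c (b.succAbove j)) = c ∘ b.succAbove from rfl, Set.range_comp, Fin.range_succAbove]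
    rfl
  rw [hr, ← hs]
  refine le_antisymm (Submodule.span_mono (Set.image_subset_range _ _)) (Submodule.span_le.2 ?_)
  rintro _ ⟨b', rfl⟩
  by_cases h : b' = b
  · exact h ▸ hb
  · exact Submodule.subset_span ⟨b', h, rfl⟩

end Gens

section Mat

variable {l m o : ℕ}

/-- A matrix of a degree preserving map. -/
def HMat (src : Fin l → ℤ) (tgt : Fin m → ℤ) (A : Matrix (Fin m) (Fin l) (MvPolynomial (Fin n) k)) : Prop :=
  ∀ a b, A a b ∈ (GrSyz.stdGr k (Fin n)) (src b - tgt a)

variable {src : Fin l → ℤ} {tgt : Fin m → ℤ} {A B : Matrix (Fin m) (Fin l) (MvPolynomial (Fin n) k)}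

lemma HMat.col (h : HMat src tgt A) (b : Fin l) : (fun a => A a b) ∈ vec tgt (src b) :=
  (mem_vec tgt).2 fun a => h a b

lemma HMat.mul {mid : Fin m → ℤ} {top : Fin o → ℤ} {A : Matrix (Fin o) (Fin m) (MvPolynomial (Fin n) k)} {B : Matrix (Fin m) (Fin l) (MvPolynomial (Fin n) k)}
    (hA : HMat mid top A) (hB : HMat src mid B) : HMat src top (A * B) := fun a b => by
  rw [Matrix.mul_apply]
  refine Submodule.sum_mem _ fun c _ => ?_
  have := SetLike.mul_mem_graded (hA a c) (hB c b)
  convert this using 2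
  ring

lemma HMat.sub (hA : HMat src tgt A) (hB : HMat src tgt B) : HMat src tgt (A - B) :=
  fun a b => Submodule.sub_mem _ (hA a b) (hB a b)

lemma HMat.add (hA : HMat src tgt A) (hB : HMat src tgt B) : HMat src tgt (A + B) :=
  fun a b => Submodule.add_mem _ (hA a b) (hB a b)

lemma HMat.one (d : Fin m → ℤ) : HMat d d (1 : Matrix (Fin m) (Fin m) (MvPolynomial (Fin n) k)) := fun a b => by
  by_cases h : a = b
  · subst h
    rw [Matrix.one_apply_eq, sub_self]
    exact SetLike.one_mem_graded (GrSyz.stdGr k (Fin n))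
  · rw [Matrix.one_apply_ne h]
    exact Submodule.zero_mem _

lemma mulVecLin_eq (A : Matrix (Fin m) (Fin l) (MvPolynomial (Fin n) k)) :
    Matrix.mulVecLin A = Fintype.linearCombination (MvPolynomial (Fin n) k) (fun b a => A a b) := by
  refine LinearMap.ext fun v => funext fun a => ?_
  simp [Fintype.linearCombination_apply, Matrix.mulVec, dotProduct, mul_comm]

variable {M : Type u} [AddCommGroup M] [Module k M] [Module (MvPolynomial (Fin n) k) M] [IsScalarTower k (MvPolynomial (Fin n) k) M]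
  (ℳ : ℤ → Submodule k M) [DirectSum.Decomposition ℳ] [SetLike.GradedSMul (GrSyz.stdGr k (Fin n)) ℳ]
  {deg : Fin m → ℤ} {c : Fin m → M}

lemma exists_mat_lift (hc : ∀ a, c a ∈ ℳ (deg a)) (w : Fin l → M) (hw : ∀ b, w b ∈ ℳ (src b))
    (hs : ∀ b, w b ∈ LinearMap.range (Fintype.linearCombination (MvPolynomial (Fin n) k) c)) :
    ∃ A : Matrix (Fin m) (Fin l) (MvPolynomial (Fin n) k), HMat src deg A ∧ ∀ b, Fintype.linearCombination (MvPolynomial (Fin n) k) c (fun a => A a b) = w b := by
  choose v hv hv' using fun b => exists_lift ℳ hc (hw b) (hs b)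
  exact ⟨fun a b => v b a, fun a b => (mem_vec deg).1 (hv b) a, hv'⟩

lemma exists_mat_lift_mat {p : ℕ} {top : Fin p → ℤ} {D : Matrix (Fin p) (Fin m) (MvPolynomial (Fin n) k)} (hD : HMat deg top D)
    {W : Matrix (Fin p) (Fin l) (MvPolynomial (Fin n) k)} (hW : HMat src top W)
    (hs : ∀ b, (fun a => W a b) ∈ LinearMap.range (Matrix.mulVecLin D)) :
    ∃ A : Matrix (Fin m) (Fin l) (MvPolynomial (Fin n) k), HMat src deg A ∧ D * A = W := by
  obtain ⟨A, hA, hA'⟩ := exists_mat_lift (src := src) (vec top) (c := fun a i => D i a) (deg := deg) hD.col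
    (fun b a => W a b) hW.col (fun b => by rw [← mulVecLin_eq]; exact hs b)
  refine ⟨A, hA, Matrix.ext fun i b => ?_⟩
  rw [← congrFun (hA' b) i, ← mulVecLin_eq]
  rfl

end Mat

end Groth.Agent.GrSyzMin
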