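import Groth.Agent.GrSyzMin.Grading

/-!
Existence of minimal graded free resolutions; minimality as irredundance.
-/

set_option autoImplicit false
set_option linter.unusedSectionVars false
universe u

open scoped Classical
open DirectSum Groth.Agent.GrSyzHilb

noncomputable section

namespace Groth.Agent.GrSyzMin

variable {k : Type u} [Field k] {n : ℕ}
variable {M : Type u} [AddCommGroup M] [Module k M] [Module (MvPolynomial (Fin n) k) M]
  [IsScalarTower k (MvPolynomial (Fin n) k) M]
  {ℳ : ℤ → Submodule k M} [DirectSum.Decomposition ℳ] [SetLike.GradedSMul (GrSyz.stdGr k (Fin n)) ℳ]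

section Res

variable (F : GrSyz.FreeRes (GrSyz.stdGr k (Fin n)) ℳ)

/-- The columns of a differential. -/
def col (i : ℕ) : Fin (F.rk (i + 1)) → (Fin (F.rk i) → MvPolynomial (Fin n) k) := fun b a => F.d i a b

lemma hmat_d (i : ℕ) : HMat (F.deg (i + 1)) (F.deg i) (F.d i) := F.d_mem i

lemma col_mem (i : ℕ) (b : Fin (F.rk (i + 1))) : col F i b ∈ vec (F.deg i) (F.deg (i + 1) b) :=
  (hmat_d F i).col b

lemma dLin_eq (i : ℕ) : F.dLin i = Fintype.linearCombination (MvPolynomial (Fin n) k) (col F i) :=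
  mulVecLin_eq _

lemma col_mem_ker_zero (b : Fin (F.rk 1)) : F.augLin (col F 0 b) = 0 := by
  have : col F 0 b ∈ LinearMap.range (F.dLin 0) :=
    ⟨Pi.single b 1, by rw [dLin_eq, Fintype.linearCombination_apply_single, one_smul]⟩
  rw [← F.exact_zero] at this
  exact this

lemma col_mem_ker (i : ℕ) (b : Fin (F.rk (i + 1 + 1))) : F.dLin i (col F (i + 1) b) = 0 := by
  have : col F (i + 1) b ∈ LinearMap.range (F.dLin (i + 1)) :=
    ⟨Pi.single b 1, by rw [dLin_eq, Fintype.linearCombination_apply_single, one_smul]⟩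
  rw [← F.exact_succ i] at this
  exact this

lemma d_mul_d (i : ℕ) : F.d i * F.d (i + 1) = 0 :=
  Matrix.ext fun a b => congrFun (col_mem_ker F i b) a

lemma cst_mulVec_eq_zero {l m : ℕ} {A : Matrix (Fin m) (Fin l) (MvPolynomial (Fin n) k)}
    (hA : ∀ a b, MvPolynomial.constantCoeff (A a b) = 0) {v : Fin m → MvPolynomial (Fin n) k}
    (hv : v ∈ LinearMap.range (Matrix.mulVecLin A)) (a : Fin m) : MvPolynomial.constantCoeff (v a) = 0 := by
  obtain ⟨w, rfl⟩ := hv
  simp [Matrix.mulVec, dotProduct, hA]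

variable {F}

lemma isMinimal_iff : F.IsMinimal (GrSyz.irrel (GrSyz.stdGr k (Fin n))).toIdeal ↔
    ∀ i a b, MvPolynomial.constantCoeff (F.d i a b) = 0 :=
  forall_congr' fun _ => forall₂_congr fun _ _ => mem_irrel_iff

lemma irred_of_isMinimal (hF : F.IsMinimal (GrSyz.irrel (GrSyz.stdGr k (Fin n))).toIdeal) :
    Irred (k := k) (n := n) F.aug ∧ ∀ i, Irred (k := k) (n := n) (col F i) := by
  have h := isMinimal_iff.1 hF
  refine ⟨irred_of_cst fun v hv => cst_mulVec_eq_zero (h 0) ?_,
    fun i => irred_of_cst fun v hv => cst_mulVec_eq_zero (h (i + 1)) ?_⟩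
  · rw [← F.exact_zero]
    exact hv
  · rw [← F.exact_succ i]
    show F.dLin i v = 0
    rw [dLin_eq]
    exact hv

lemma isMinimal_of_irred (h0 : Irred (k := k) (n := n) F.aug) (h : ∀ i, Irred (k := k) (n := n) (col F i)) :
    F.IsMinimal (GrSyz.irrel (GrSyz.stdGr k (Fin n))).toIdeal := by
  refine isMinimal_iff.2 fun i a b => ?_
  cases i with
  | zero => exact cst_of_lc_eq_zero ℳ F.aug_mem h0 (col_mem_ker_zero F b) a
  | succ i =>
    refine cst_of_lc_eq_zero (vec (F.deg i)) (col_mem F i) (h i) (v := col F (i + 1) b) ?_ a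
    rw [← dLin_eq]
    exact col_mem_ker F i b

lemma col_ne_zero (hF : F.IsMinimal (GrSyz.irrel (GrSyz.stdGr k (Fin n))).toIdeal) (i : ℕ)
    (b : Fin (F.rk (i + 1))) : col F i b ≠ 0 := fun h =>
  (irred_of_isMinimal hF).2 i b (h.symm ▸ Submodule.zero_mem _)

lemma exists_deg_lt (hF : F.IsMinimal (GrSyz.irrel (GrSyz.stdGr k (Fin n))).toIdeal) (i : ℕ)
    (b : Fin (F.rk (i + 1))) : ∃ a, F.deg i a + 1 ≤ F.deg (i + 1) b := by
  obtain ⟨a, ha⟩ : ∃ a, F.d i a b ≠ 0 := by
    by_contra h
    push Not at h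
    exact col_ne_zero hF i b (funext h)
  refine ⟨a, ?_⟩
  by_contra h
  rcases lt_or_eq_of_le (show F.deg (i + 1) b - F.deg i a ≤ 0 by omega) with h1 | h1
  · exact ha (eq_zero_of_deg_neg h1 (F.d_mem i a b))
  · have h2 := F.d_mem i a b
    rw [h1] at h2
    exact ha (by rw [eq_C_of_deg_zero h2, isMinimal_iff.1 hF i a b, map_zero])

end Res

section Build

/-- A stage of the construction: a free module and the next syzygy module inside it. -/
structure Stage (k : Type u) [Field k] (n : ℕ) where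
  m : ℕ
  deg : Fin m → ℤ
  K : Submodule (MvPolynomial (Fin n) k) (Fin m → MvPolynomial (Fin n) k)
  homog : Homog (vec deg) K

lemma Stage.exists_next (s : Stage k n) : ∃ (m : ℕ) (deg : Fin m → ℤ) (c : Fin m → (Fin s.m → MvPolynomial (Fin n) k)),
    (∀ b, c b ∈ vec s.deg (deg b)) ∧ Submodule.span (MvPolynomial (Fin n) k) (Set.range c) = s.K ∧ Irred (k := k) (n := n) c :=
  exists_irred_gens (vec s.deg) s.homog (IsNoetherian.noetherian _)

def Stage.m' (s : Stage k n) : ℕ := s.exists_next.choose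
def Stage.deg' (s : Stage k n) : Fin s.m' → ℤ := s.exists_next.choose_spec.choose
def Stage.c (s : Stage k n) : Fin s.m' → (Fin s.m → MvPolynomial (Fin n) k) :=
  s.exists_next.choose_spec.choose_spec.choose

lemma Stage.spec (s : Stage k n) : (∀ b, s.c b ∈ vec s.deg (s.deg' b)) ∧
    Submodule.span (MvPolynomial (Fin n) k) (Set.range s.c) = s.K ∧ Irred (k := k) (n := n) s.c :=
  s.exists_next.choose_spec.choose_spec.choose_spec

def Stage.next (s : Stage k n) : Stage k n where
  m := s.m'
  deg := s.deg'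
  K := LinearMap.ker (Fintype.linearCombination (MvPolynomial (Fin n) k) s.c)
  homog := homog_ker (vec s.deg) s.spec.1

def stages (s : Stage k n) : ℕ → Stage k n
  | 0 => s
  | i + 1 => (stages s i).next

variable (ℳ)

theorem exists_minimal [Module.Finite (MvPolynomial (Fin n) k) M] :
    ∃ F : GrSyz.FreeRes (GrSyz.stdGr k (Fin n)) ℳ, F.IsMinimal (GrSyz.irrel (GrSyz.stdGr k (Fin n))).toIdeal := by
  obtain ⟨m, deg, c, hc, hs, hi⟩ := exists_irred_gens ℳ (homog_top (n := n) ℳ) Module.Finite.fg_top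
  let s : Stage k n := ⟨m, deg, LinearMap.ker (Fintype.linearCombination (MvPolynomial (Fin n) k) c), homog_ker ℳ hc⟩
  have hr : ∀ i, LinearMap.range (Matrix.mulVecLin (Matrix.of fun a b => (stages s i).c b a)) = (stages s i).K := by
    intro i
    rw [mulVecLin_eq, Fintype.range_linearCombination]
    exact (stages s i).spec.2.1
  let F : GrSyz.FreeRes (GrSyz.stdGr k (Fin n)) ℳ :=
    { rk := fun i => (stages s i).m
      deg := fun i => (stages s i).deg
      d := fun i => Matrix.of fun a b => (stages s i).c b a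
      aug := c
      d_mem := fun i a b => (mem_vec _).1 ((stages s i).spec.1 b) a
      aug_mem := hc
      aug_surjective := LinearMap.range_eq_top.1 (by rw [Fintype.range_linearCombination]; exact hs)
      exact_zero := (hr 0).symm
      exact_succ := fun i => (congrArg LinearMap.ker (mulVecLin_eq _)).trans (hr (i + 1)).symm }
  exact ⟨F, isMinimal_of_irred (F := F) hi fun i => (stages s i).spec.2.2⟩

end Build

end Groth.Agent.GrSyzMin
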