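import Groth.Agent.GrSyzMin.Minimal

/-!
Length of a minimal resolution and projective dimension.
-/

set_option autoImplicit false
set_option linter.unusedSectionVars false
universe u

open scoped Classical
open CategoryTheory

noncomputable section

namespace Groth.Agent.GrSyzMin

variable {k : Type u} [Field k] {n : ℕ}

lemma pd_iff_ker {P X : Type u} [AddCommGroup P] [Module (MvPolynomial (Fin n) k) P]
    [Module.Projective (MvPolynomial (Fin n) k) P] [AddCommGroup X] [Module (MvPolynomial (Fin n) k) X]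
    (π : P →ₗ[MvPolynomial (Fin n) k] X) (hπ : Function.Surjective π)
    (K : Submodule (MvPolynomial (Fin n) k) P) (hK : LinearMap.ker π = K) (m : ℕ) :
    HasProjectiveDimensionLE (ModuleCat.of (MvPolynomial (Fin n) k) X) (m + 1) ↔
      HasProjectiveDimensionLE (ModuleCat.of (MvPolynomial (Fin n) k) K) m := by
  subst hK
  exact (LinearMap.shortExact_shortComplexKer hπ).hasProjectiveDimensionLT_X₃_iff m
    (inferInstanceAs (Projective (ModuleCat.of (MvPolynomial (Fin n) k) P)))

variable {M : Type u} [AddCommGroup M] [Module k M] [Module (MvPolynomial (Fin n) k) M]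
  [IsScalarTower k (MvPolynomial (Fin n) k) M]
  {ℳ : ℤ → Submodule k M} [DirectSum.Decomposition ℳ] [SetLike.GradedSMul (GrSyz.stdGr k (Fin n)) ℳ]
variable (F : GrSyz.FreeRes (GrSyz.stdGr k (Fin n)) ℳ)

lemma ker_rangeRestrict_eq (i : ℕ) :
    LinearMap.ker (F.dLin i).rangeRestrict = LinearMap.range (F.dLin (i + 1)) := by
  rw [LinearMap.ker_rangeRestrict]
  exact F.exact_succ i

lemma pd_succ_iff (i m : ℕ) :
    HasProjectiveDimensionLE (ModuleCat.of (MvPolynomial (Fin n) k) (LinearMap.range (F.dLin i))) (m + 1) ↔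
      HasProjectiveDimensionLE (ModuleCat.of (MvPolynomial (Fin n) k) (LinearMap.range (F.dLin (i + 1)))) m :=
  pd_iff_ker (F.dLin i).rangeRestrict (LinearMap.surjective_rangeRestrict _) _ (ker_rangeRestrict_eq F i) m

lemma pd_shift (i : ℕ) : ∀ m : ℕ,
    HasProjectiveDimensionLE (ModuleCat.of (MvPolynomial (Fin n) k) (LinearMap.range (F.dLin i))) m ↔
      HasProjectiveDimensionLE (ModuleCat.of (MvPolynomial (Fin n) k) (LinearMap.range (F.dLin (i + m)))) 0 := by
  intro m
  induction m generalizing i with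
  | zero => rfl
  | succ m ih =>
    rw [pd_succ_iff, ih (i + 1), show i + 1 + m = i + (m + 1) by omega]

lemma pd_succ_M_iff (m : ℕ) :
    HasProjectiveDimensionLE (ModuleCat.of (MvPolynomial (Fin n) k) M) (m + 1) ↔
      Module.Projective (MvPolynomial (Fin n) k) (LinearMap.range (F.dLin m)) := by
  rw [pd_iff_ker F.augLin F.aug_surjective _ F.exact_zero m, pd_shift F 0 m, zero_add,
    ← projective_iff_hasProjectiveDimensionLE_zero]
  exact (IsProjective.iff_projective _).symm

lemma pd_zero_M_iff :
    HasProjectiveDimensionLE (ModuleCat.of (MvPolynomial (Fin n) k) M) 0 ↔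
      Module.Projective (MvPolynomial (Fin n) k) M := by
  rw [← projective_iff_hasProjectiveDimensionLE_zero]
  exact (IsProjective.iff_projective _).symm

/-- a direct summand inside the irrelevant part of a free module vanishes -/
lemma eq_bot_of_retract {m : ℕ} {X : Type u} [AddCommGroup X] [Module (MvPolynomial (Fin n) k) X]
    [Module.Projective (MvPolynomial (Fin n) k) X] (π : (Fin m → MvPolynomial (Fin n) k) →ₗ[MvPolynomial (Fin n) k] X)
    (hπ : Function.Surjective π) (hker : ∀ v ∈ LinearMap.ker π, ∀ a, MvPolynomial.constantCoeff (v a) = 0) :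
    LinearMap.ker π = ⊥ := by
  obtain ⟨s, hs⟩ := π.exists_rightInverse_of_surjective (LinearMap.range_eq_top.2 hπ)
  let I : Ideal (MvPolynomial (Fin n) k) := RingHom.ker MvPolynomial.constantCoeff
  let p : (Fin m → MvPolynomial (Fin n) k) →ₗ[MvPolynomial (Fin n) k] (Fin m → MvPolynomial (Fin n) k) := LinearMap.id - s.comp π
  have hp : ∀ v, p v ∈ LinearMap.ker π := fun v => by
    have := LinearMap.congr_fun hs (π v)
    simp only [LinearMap.comp_apply, LinearMap.id_apply] at this
    simp [p, this]
  have hle : LinearMap.ker π ≤ I • LinearMap.ker π := by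
    intro v hv
    have hv' : v = p v := by simp [p, LinearMap.mem_ker.1 hv]
    rw [hv', ← Finset.univ_sum_single v, map_sum]
    refine Submodule.sum_mem _ fun a _ => ?_
    have h1 : Pi.single a (v a) = v a • (Pi.single a 1 : Fin m → MvPolynomial (Fin n) k) := by
      funext b
      by_cases h : b = a
      · subst h; simp
      · simp [Pi.single_eq_of_ne h]
    rw [h1, map_smul]
    exact Submodule.smul_mem_smul (hker v hv a) (hp _)
  obtain ⟨r, hr, hr'⟩ := Submodule.exists_sub_one_mem_and_smul_eq_zero_of_fg_of_le_smul I _ (IsNoetherian.noetherian _) hle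
  rw [eq_bot_iff]
  intro v hv
  rw [Submodule.mem_bot]
  have hr0 : r ≠ 0 := by
    rintro rfl
    simp [I, RingHom.mem_ker] at hr
  funext a
  exact (mul_eq_zero.1 (congrFun (hr' v hv) a)).resolve_left hr0

variable {F} (hF : F.IsMinimal (GrSyz.irrel (GrSyz.stdGr k (Fin n))).toIdeal)

include hF in
lemma rk_succ_eq_zero {i : ℕ} (h : F.rk i = 0) : F.rk (i + 1) = 0 := by
  by_contra h'
  obtain ⟨a, -⟩ := exists_deg_lt hF i ⟨0, Nat.pos_of_ne_zero h'⟩
  have := a.isLt
  omega

include hF in
lemma hasLengthLE_of_rk_succ {m : ℕ} (h : F.rk (m + 1) = 0) : F.HasLengthLE m := by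
  intro i hi
  induction i, hi using Nat.le_induction with
  | base => exact h
  | succ i _ ih => exact rk_succ_eq_zero hF ih

include hF in
lemma hasLengthLE_of_ker_eq_bot {m : ℕ} (h : LinearMap.range (F.dLin m) = ⊥) : F.HasLengthLE m := by
  refine hasLengthLE_of_rk_succ hF ?_
  by_contra h'
  refine col_ne_zero hF m ⟨0, Nat.pos_of_ne_zero h'⟩ ?_
  have : col F m ⟨0, Nat.pos_of_ne_zero h'⟩ ∈ LinearMap.range (F.dLin m) :=
    ⟨Pi.single ⟨0, Nat.pos_of_ne_zero h'⟩ 1, by rw [dLin_eq, Fintype.linearCombination_apply_single, one_smul]⟩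
  rwa [h, Submodule.mem_bot] at this

variable (F) in
lemma pd_of_hasLengthLE {m : ℕ} (h : F.HasLengthLE m) :
    HasProjectiveDimensionLE (ModuleCat.of (MvPolynomial (Fin n) k) M) m := by
  have hb : LinearMap.range (F.dLin m) = ⊥ := by
    have : IsEmpty (Fin (F.rk (m + 1))) := by rw [h (m + 1) (Nat.lt_succ_self m)]; infer_instance
    exact eq_bot_iff.2 fun _ ⟨w, hw⟩ => (Submodule.mem_bot _).2 (by rw [← hw, Subsingleton.elim w 0, map_zero])
  cases m with
  | zero =>
    rw [pd_zero_M_iff]
    exact Module.Projective.of_equiv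
      (LinearEquiv.ofBijective F.augLin ⟨LinearMap.ker_eq_bot.1 (F.exact_zero.trans hb), F.aug_surjective⟩)
  | succ m =>
    rw [pd_succ_M_iff F]
    exact Module.Projective.of_equiv
      (LinearEquiv.ofBijective (F.dLin m).rangeRestrict
        ⟨LinearMap.ker_eq_bot.1 ((ker_rangeRestrict_eq F m).trans hb), LinearMap.surjective_rangeRestrict _⟩)

include hF in
theorem hasLengthLE_iff_pd (m : ℕ) :
    F.HasLengthLE m ↔ HasProjectiveDimensionLE (ModuleCat.of (MvPolynomial (Fin n) k) M) m := by
  refine ⟨pd_of_hasLengthLE F, fun h => hasLengthLE_of_ker_eq_bot hF ?_⟩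
  have hc : ∀ v ∈ LinearMap.range (F.dLin m), ∀ a, MvPolynomial.constantCoeff (v a) = 0 := fun v hv =>
    cst_mulVec_eq_zero (isMinimal_iff.1 hF m) hv
  cases m with
  | zero =>
    haveI := (pd_zero_M_iff (n := n)).1 h
    have e : LinearMap.ker F.augLin = LinearMap.range (F.dLin 0) := F.exact_zero
    rw [← e] at hc ⊢
    exact eq_bot_of_retract F.augLin F.aug_surjective hc
  | succ m =>
    haveI := (pd_succ_M_iff F m).1 h
    rw [← ker_rangeRestrict_eq F m] at hc ⊢
    exact eq_bot_of_retract _ (LinearMap.surjective_rangeRestrict _) hc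

end Groth.Agent.GrSyzMin
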