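import Groth.Agent.GrSyzMin.Tor

/-!
Regularity as a supremum.
-/

set_option autoImplicit false
set_option linter.unusedSectionVars false
universe u

open scoped Classical

noncomputable section

namespace Groth.Agent.GrSyzMin

lemma iInf_int_eq (P : ℤ → Prop) (v : WithBot (WithTop ℤ))
    (h : ∀ r : ℤ, P r ↔ v ≤ ((r : WithTop ℤ) : WithBot (WithTop ℤ))) :
    (⨅ (r : ℤ) (_ : P r), ((r : WithTop ℤ) : WithBot (WithTop ℤ))) = v := by
  refine le_antisymm ?_ (le_iInf₂ fun r hr => (h r).1 hr)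
  induction v with
  | bot =>
    refine le_of_eq (iInf_eq_bot.2 fun b hb => ?_)
    induction b with
    | bot => exact absurd hb (lt_irrefl _)
    | coe t =>
      induction t with
      | top =>
        exact ⟨0, lt_of_le_of_lt (iInf_le _ ((h 0).2 bot_le)) (WithBot.coe_lt_coe.2 (WithTop.coe_lt_top _))⟩
      | coe z =>
        refine ⟨z - 1, lt_of_le_of_lt (iInf_le _ ((h (z - 1)).2 bot_le)) ?_⟩
        rw [WithBot.coe_lt_coe, WithTop.coe_lt_coe]
        omega
  | coe t =>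
    induction t with
    | top => exact le_top
    | coe z => exact iInf₂_le z ((h z).2 le_rfl)

variable {k : Type u} [Field k] {n : ℕ}
variable {M : Type u} [AddCommGroup M] [Module k M] [Module (MvPolynomial (Fin n) k) M]
  [IsScalarTower k (MvPolynomial (Fin n) k) M]
  {ℳ : ℤ → Submodule k M} [DirectSum.Decomposition ℳ] [SetLike.GradedSMul (GrSyz.stdGr k (Fin n)) ℳ]
variable {F : GrSyz.FreeRes (GrSyz.stdGr k (Fin n)) ℳ}

lemma isGenLE_iff_iSup_le (F : GrSyz.FreeRes (GrSyz.stdGr k (Fin n)) ℳ) (r : ℤ) :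
    F.IsGenLE r ↔ (⨆ i : ℕ, WithBot.map (fun t : ℤ => ((t - (i : ℤ) : ℤ) : WithTop ℤ)) (F.maxGenDeg i)) ≤
      ((r : WithTop ℤ) : WithBot (WithTop ℤ)) := by
  rw [iSup_le_iff]
  refine forall_congr' fun i => ?_
  have : (∀ b, F.deg i b ≤ r + i) ↔ F.maxGenDeg i ≤ ((r + i : ℤ) : WithBot ℤ) := by
    rw [GrSyz.FreeRes.maxGenDeg, Finset.sup_le_iff]
    exact ⟨fun h b _ => WithBot.coe_le_coe.2 (h b), fun h b => WithBot.coe_le_coe.1 (h b (Finset.mem_univ b))⟩
  rw [this]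
  generalize F.maxGenDeg i = t
  induction t with
  | bot => simp
  | coe t =>
    rw [WithBot.map_coe, WithBot.coe_le_coe, WithBot.coe_le_coe, WithTop.coe_le_coe]
    omega

theorem reg_eq_iSup (hF : F.IsMinimal (GrSyz.irrel (GrSyz.stdGr k (Fin n))).toIdeal) :
    GrSyz.reg (GrSyz.stdGr k (Fin n)) ℳ (GrSyz.irrel (GrSyz.stdGr k (Fin n))).toIdeal =
      ⨆ i : ℕ, WithBot.map (fun t : ℤ => ((t - (i : ℤ) : ℤ) : WithTop ℤ)) (F.maxGenDeg i) :=
  iInf_int_eq _ _ fun r => (isRegLE_iff_isGenLE hF r).trans (isGenLE_iff_iSup_le F r)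

end Groth.Agent.GrSyzMin
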