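import Groth.Agent.GrSyzMin.GradedLength

/-!
Regularity through a maximal regular sequence of linear forms, and the degree bound.
-/

set_option autoImplicit false
set_option linter.unusedSectionVars false
set_option linter.style.haveILetI false
universe u

open scoped Classical
open DirectSum Groth.Agent.GrSyzHilb

noncomputable section

namespace Groth.Agent.GrSyzMin

variable {k : Type u} [Field k] {n : ℕ}
variable {M : Type u} [AddCommGroup M] [Module k M] [Module (MvPolynomial (Fin n) k) M]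
  [IsScalarTower k (MvPolynomial (Fin n) k) M]
  {ℳ : ℤ → Submodule k M} [DirectSum.Decomposition ℳ] [SetLike.GradedSMul (GrSyz.stdGr k (Fin n)) ℳ]
variable {N : Type u} [AddCommGroup N] [Module k N] [Module (MvPolynomial (Fin n) k) N]
  [IsScalarTower k (MvPolynomial (Fin n) k) N]
  {𝒩 : ℤ → Submodule k N} [DirectSum.Decomposition 𝒩] [SetLike.GradedSMul (GrSyz.stdGr k (Fin n)) 𝒩]
  [Module.Finite (MvPolynomial (Fin n) k) M] [Module.Finite (MvPolynomial (Fin n) k) N]

theorem reg_eq_reg_quot (ys : List (MvPolynomial (Fin n) k)) (hys : ∀ y ∈ ys, y ∈ GrSyz.stdGr k (Fin n) 1)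
    (hreg : RingTheory.Sequence.IsWeaklyRegular M ys) (π : M →ₗ[MvPolynomial (Fin n) k] N)
    (hπ : Function.Surjective π) (hπg : ∀ (e : ℤ) (x : M), x ∈ ℳ e → π x ∈ 𝒩 e)
    (hker : LinearMap.ker π = Ideal.ofList ys • (⊤ : Submodule (MvPolynomial (Fin n) k) M)) :
    GrSyz.reg (GrSyz.stdGr k (Fin n)) ℳ (GrSyz.irrel (GrSyz.stdGr k (Fin n))).toIdeal =
      GrSyz.reg (GrSyz.stdGr k (Fin n)) 𝒩 (GrSyz.irrel (GrSyz.stdGr k (Fin n))).toIdeal := by
  obtain ⟨F, hF⟩ := exists_minimal (n := n) ℳ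
  obtain ⟨G, hG, hr, -, -⟩ := exists_quotRes_list (𝒩 := 𝒩) ys hys M ℳ hreg π hπ hker hπg F hF
  rw [reg_eq_iSup hF]
  refine (iInf_int_eq _ _ fun r => ?_).symm
  rw [isRegLE_iff_isGenLE hG, hr, isGenLE_iff_iSup_le]

end Groth.Agent.GrSyzMin
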