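import Groth.Agent.GrSyzMin.Grading

/-!
Graded submodules and quotients.
-/

set_option autoImplicit false
set_option linter.unusedSectionVars false
universe u

open scoped Classical
open DirectSum Groth.Agent.GrSyzHilb

noncomputable section

namespace Groth.Agent.GrSyzMin

variable {k : Type u} [Field k] {n : ℕ}
variable {M : Type u} [AddCommGroup M] [Module k M] [Module (MvPolynomial (Fin n) k) M]
  [IsScalarTower k (MvPolynomial (Fin n) k) M]
  (ℳ : ℤ → Submodule k M) (K : Submodule (MvPolynomial (Fin n) k) M)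

/-- The pieces of a submodule. -/
def subGr (e : ℤ) : Submodule k K := (ℳ e).comap (K.subtype.restrictScalars k)

/-- The pieces of a quotient. -/
def quotGr (e : ℤ) : Submodule k (M ⧸ K) := (ℳ e).map (K.mkQ.restrictScalars k)

variable {ℳ K}

lemma mem_subGr {e : ℤ} {x : K} : x ∈ subGr ℳ K e ↔ (x : M) ∈ ℳ e := Iff.rfl

lemma mk_mem_quotGr {e : ℤ} {x : M} (hx : x ∈ ℳ e) : Submodule.Quotient.mk x ∈ quotGr ℳ K e :=
  ⟨x, hx, rfl⟩

variable (ℳ K)

instance subGr_gradedSMul [SetLike.GradedSMul (GrSyz.stdGr k (Fin n)) ℳ] :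
    SetLike.GradedSMul (GrSyz.stdGr k (Fin n)) (subGr ℳ K) :=
  ⟨fun {d e p m} hp hm => SetLike.GradedSMul.smul_mem (A := GrSyz.stdGr k (Fin n)) (B := ℳ) (bj := (m : M)) hp hm⟩

instance quotGr_gradedSMul [SetLike.GradedSMul (GrSyz.stdGr k (Fin n)) ℳ] :
    SetLike.GradedSMul (GrSyz.stdGr k (Fin n)) (quotGr ℳ K) :=
  ⟨fun {d e p m} hp hm => by
    obtain ⟨x, hx, rfl⟩ := hm
    exact ⟨p • x, SetLike.GradedSMul.smul_mem hp hx, map_smul K.mkQ p x⟩⟩

variable [DirectSum.Decomposition ℳ] [SetLike.GradedSMul (GrSyz.stdGr k (Fin n)) ℳ]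

omit [SetLike.GradedSMul (GrSyz.stdGr k (Fin n)) ℳ] in
lemma coe_component_sub (w : ⨁ e, subGr ℳ K e) (e : ℤ) :
    comp ℳ e ((DirectSum.coeLinearMap (subGr ℳ K) w : K) : M) = ((w e : K) : M) := by
  induction w using DirectSum.induction_on with
  | zero => simp
  | of j x =>
    rw [DirectSum.coeLinearMap_of]
    by_cases h : j = e
    · subst h
      rw [comp_of_mem ℳ (show ((x : K) : M) ∈ ℳ j from x.2), DirectSum.of_eq_same]
    · rw [comp_of_mem_ne ℳ (show ((x : K) : M) ∈ ℳ j from x.2) h, DirectSum.of_eq_of_ne _ _ _ (Ne.symm h)]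
      rfl
  | add a b ha hb => simp only [map_add, Submodule.coe_add, DirectSum.add_apply, ha, hb]

/-- A submodule with homogeneous components is graded. -/
@[instance_reducible]
def subDec (hK : Homog ℳ K) : DirectSum.Decomposition (subGr ℳ K) := by
  refine DirectSum.IsInternal.chooseDecomposition _ ⟨fun a b h => ?_, fun z => ?_⟩
  · refine DFinsupp.ext fun e => Subtype.ext (Subtype.ext ?_)
    rw [← coe_component_sub ℳ K a e, ← coe_component_sub ℳ K b e]
    exact congrArg (fun z : K => comp ℳ e (z : M)) h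
  · refine ⟨∑ e ∈ (DirectSum.decompose ℳ (z : M)).support, DirectSum.of (fun e => subGr ℳ K e) e
      ⟨⟨_, hK z.1 z.2 e⟩, comp_mem ℳ e _⟩, Subtype.ext ?_⟩
    rw [map_sum, AddSubmonoidClass.coe_finsetSum]
    simp only [DirectSum.coeAddMonoidHom_of]
    exact DirectSum.sum_support_decompose ℳ (z : M)

/-- The map to the components of the quotient. -/
def quotAux : M →ₗ[k] ⨁ e, quotGr ℳ K e :=
  (DirectSum.lmap fun e => (K.mkQ.restrictScalars k).restrict (fun _ hx => mk_mem_quotGr (K := K) hx : ∀ x ∈ ℳ e, _ ∈ quotGr ℳ K e)) ∘ₗ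
    (DirectSum.decomposeLinearEquiv ℳ).toLinearMap

omit [SetLike.GradedSMul (GrSyz.stdGr k (Fin n)) ℳ] in
lemma quotAux_apply (x : M) (e : ℤ) : ((quotAux ℳ K x e : quotGr ℳ K e) : M ⧸ K) = K.mkQ (comp ℳ e x) := rfl

omit [SetLike.GradedSMul (GrSyz.stdGr k (Fin n)) ℳ] in
lemma coe_quotAux (x : M) :
    DirectSum.coeLinearMap (quotGr ℳ K) (quotAux ℳ K x) = Submodule.Quotient.mk x := by
  induction x using DirectSum.Decomposition.inductionOn ℳ with
  | zero => simp
  | @homogeneous j q =>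
    simp [quotAux, DirectSum.decomposeLinearEquiv_apply, ← DirectSum.lof_eq_of k, DirectSum.lmap_lof]
  | add a b ha hb => rw [map_add, map_add, ha, hb]; rfl

omit [SetLike.GradedSMul (GrSyz.stdGr k (Fin n)) ℳ] in
lemma quotAux_surjective : Function.Surjective (quotAux ℳ K) := fun w => by
  induction w using DirectSum.induction_on with
  | zero => exact ⟨0, map_zero _⟩
  | of e y =>
    obtain ⟨_, x, hx, rfl⟩ := y
    refine ⟨x, ?_⟩
    simp only [quotAux, LinearMap.comp_apply, LinearEquiv.coe_coe, DirectSum.decomposeLinearEquiv_apply,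
      DirectSum.decompose_of_mem ℳ hx, ← DirectSum.lof_eq_of k, DirectSum.lmap_lof]
    rfl
  | add a b ha hb =>
    obtain ⟨x, rfl⟩ := ha
    obtain ⟨y, rfl⟩ := hb
    exact ⟨x + y, map_add _ _ _⟩

/-- A quotient by a submodule with homogeneous components is graded. -/
@[instance_reducible]
def quotDec (hK : Homog ℳ K) : DirectSum.Decomposition (quotGr ℳ K) := by
  refine DirectSum.IsInternal.chooseDecomposition _ ⟨fun a b h => ?_, fun z => ?_⟩
  · obtain ⟨x, rfl⟩ := quotAux_surjective ℳ K a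
    obtain ⟨y, rfl⟩ := quotAux_surjective ℳ K b
    have h' : Submodule.Quotient.mk x = (Submodule.Quotient.mk y : M ⧸ K) :=
      (coe_quotAux ℳ K x).symm.trans (h.trans (coe_quotAux ℳ K y))
    refine DFinsupp.ext fun e => Subtype.ext ?_
    rw [quotAux_apply, quotAux_apply]
    refine (Submodule.Quotient.eq K).2 ?_
    rw [← map_sub]
    exact hK _ ((Submodule.Quotient.eq K).1 h') e
  · obtain ⟨x, rfl⟩ := Submodule.Quotient.mk_surjective _ z
    exact ⟨quotAux ℳ K x, coe_quotAux ℳ K x⟩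

variable {ℳ K}

lemma homog_span {ι : Type*} {d : ι → ℤ} {g : ι → M} (hg : ∀ i, g i ∈ ℳ (d i)) :
    Homog ℳ (Submodule.span (MvPolynomial (Fin n) k) (Set.range g)) := by
  intro x hx e
  induction hx using Submodule.span_induction generalizing e with
  | mem y hy =>
    obtain ⟨i, rfl⟩ := hy
    by_cases h : d i = e
    · subst h
      rw [comp_of_mem ℳ (hg i)]
      exact Submodule.subset_span ⟨i, rfl⟩
    · rw [comp_of_mem_ne ℳ (hg i) h]
      exact Submodule.zero_mem _
  | zero => rw [map_zero]; exact Submodule.zero_mem _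
  | add a b _ _ ha hb => rw [map_add]; exact Submodule.add_mem _ (ha e) (hb e)
  | smul p a _ ha =>
    induction p using DirectSum.Decomposition.inductionOn (GrSyz.stdGr k (Fin n)) generalizing e with
    | zero => rw [zero_smul, map_zero]; exact Submodule.zero_mem _
    | @homogeneous j q => rw [comp_smul ℳ q.2]; exact Submodule.smul_mem _ _ (ha _)
    | add q q' hq hq' => rw [add_smul, map_add]; exact Submodule.add_mem _ (hq e) (hq' e)

lemma homog_smul_top {y : MvPolynomial (Fin n) k} {d : ℤ} (hy : y ∈ GrSyz.stdGr k (Fin n) d) :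
    Homog ℳ (LinearMap.range (y • (LinearMap.id : M →ₗ[MvPolynomial (Fin n) k] M))) := by
  rintro _ ⟨x, rfl⟩ e
  exact ⟨comp ℳ (e - d) x, by rw [LinearMap.smul_apply, LinearMap.id_apply, LinearMap.smul_apply, LinearMap.id_apply, comp_smul ℳ hy]⟩

omit [SetLike.GradedSMul (GrSyz.stdGr k (Fin n)) ℳ] in
lemma homog_ker_map {N : Type u} [AddCommGroup N] [Module k N] [Module (MvPolynomial (Fin n) k) N]
    {𝒩 : ℤ → Submodule k N} [DirectSum.Decomposition 𝒩] (π : M →ₗ[MvPolynomial (Fin n) k] N)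
    (hπ : ∀ (e : ℤ) (x : M), x ∈ ℳ e → π x ∈ 𝒩 e) : Homog ℳ (LinearMap.ker π) := by
  intro x hx e
  rw [LinearMap.mem_ker] at hx ⊢
  have : ∀ y : M, comp 𝒩 e (π y) = π (comp ℳ e y) := by
    intro y
    induction y using DirectSum.Decomposition.inductionOn ℳ with
    | zero => simp
    | @homogeneous j q =>
      by_cases h : j = e
      · subst h
        rw [comp_of_mem 𝒩 (hπ j _ q.2), comp_of_mem ℳ q.2]
      · rw [comp_of_mem_ne 𝒩 (hπ j _ q.2) h, comp_of_mem_ne ℳ q.2 h, map_zero]
    | add a b ha hb => simp only [map_add, ha, hb]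
  rw [← this, hx, map_zero]

end Groth.Agent.GrSyzMin
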