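import Groth.Agent.GrSyzMin.ChainMap

/-!
A resolution modulo the irrelevant ideal, degree by degree; invariance; graded Betti numbers.
-/

set_option autoImplicit false
set_option linter.unusedSectionVars false
universe u

open scoped Classical
open DirectSum Groth.Agent.GrSyzHilb

noncomputable section

namespace Groth.Agent.GrSyzMin

variable {k : Type u} [Field k] {n : ℕ}

/-- The constant parts of a matrix, as a linear map. -/
def bar {l m : ℕ} (A : Matrix (Fin m) (Fin l) (MvPolynomial (Fin n) k)) : (Fin l → k) →ₗ[k] (Fin m → k) :=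
  Matrix.mulVecLin (A.map MvPolynomial.constantCoeff)

lemma bar_apply {l m : ℕ} (A : Matrix (Fin m) (Fin l) (MvPolynomial (Fin n) k)) (x : Fin l → k) (a : Fin m) :
    bar A x a = ∑ b, MvPolynomial.constantCoeff (A a b) * x b := rfl

lemma bar_mul {l m o : ℕ} (A : Matrix (Fin o) (Fin m) (MvPolynomial (Fin n) k))
    (B : Matrix (Fin m) (Fin l) (MvPolynomial (Fin n) k)) (x : Fin l → k) :
    bar (A * B) x = bar A (bar B x) := by
  simp [bar, Matrix.map_mul, Matrix.mulVec_mulVec]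

lemma bar_one {m : ℕ} (x : Fin m → k) : bar (1 : Matrix (Fin m) (Fin m) (MvPolynomial (Fin n) k)) x = x := by
  simp [bar]

lemma bar_add {l m : ℕ} (A B : Matrix (Fin m) (Fin l) (MvPolynomial (Fin n) k)) (x : Fin l → k) :
    bar (A + B) x = bar A x + bar B x := by
  funext a
  simp [bar_apply, add_mul, Finset.sum_add_distrib]

lemma bar_sub {l m : ℕ} (A B : Matrix (Fin m) (Fin l) (MvPolynomial (Fin n) k)) (x : Fin l → k) :
    bar (A - B) x = bar A x - bar B x := by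
  funext a
  simp [bar_apply, sub_mul, Finset.sum_sub_distrib]

lemma bar_zero {l m : ℕ} (x : Fin l → k) : bar (0 : Matrix (Fin m) (Fin l) (MvPolynomial (Fin n) k)) x = 0 := by
  funext a
  simp [bar_apply]

lemma bar_eq_zero {l m : ℕ} {A : Matrix (Fin m) (Fin l) (MvPolynomial (Fin n) k)}
    (h : ∀ a b, MvPolynomial.constantCoeff (A a b) = 0) (x : Fin l → k) : bar A x = 0 := by
  funext a
  simp [bar_apply, h]

/-- The vectors supported on basis elements of degree `j`. -/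
def supp {m : ℕ} (deg : Fin m → ℤ) (j : ℤ) : Submodule k (Fin m → k) where
  carrier := {x | ∀ b, deg b ≠ j → x b = 0}
  add_mem' ha hb b h := by simp [ha b h, hb b h]
  zero_mem' _ _ := rfl
  smul_mem' c _ ha b h := by simp [ha b h]

lemma bar_mem_supp {l m : ℕ} {src : Fin l → ℤ} {tgt : Fin m → ℤ}
    {A : Matrix (Fin m) (Fin l) (MvPolynomial (Fin n) k)} (hA : HMat src tgt A) {j : ℤ}
    {x : Fin l → k} (hx : x ∈ supp src j) : bar A x ∈ supp tgt j := fun a ha => by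
  rw [bar_apply]
  refine Finset.sum_eq_zero fun b _ => ?_
  by_cases hb : src b = j
  · rw [cst_eq_zero_of_ne (by omega) (hA a b), zero_mul]
  · rw [hx b hb, mul_zero]

lemma supp_shift {m : ℕ} (deg : Fin m → ℤ) (δ j : ℤ) :
    supp (k := k) (fun b => deg b + δ) (j + δ) = supp deg j := by
  ext x
  simp [supp]

lemma finrank_supp {m : ℕ} (deg : Fin m → ℤ) (j : ℤ) :
    Module.finrank k (supp (k := k) deg j) = (Finset.univ.filter fun b => deg b = j).card := by
  let e : supp (k := k) deg j ≃ₗ[k] ((Finset.univ.filter fun b => deg b = j : Finset (Fin m)) → k) :=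
    { toFun := fun x b => x.1 b.1
      map_add' := fun _ _ => rfl
      map_smul' := fun _ _ => rfl
      invFun := fun y => ⟨fun b => if h : b ∈ Finset.univ.filter (fun b => deg b = j) then y ⟨b, h⟩ else 0,
        fun b hb => by simp [hb]⟩
      left_inv := fun x => Subtype.ext <| funext fun b => by
        by_cases hb : deg b = j
        · simp [hb]
        · simp [hb, x.2 b hb]
      right_inv := fun y => funext fun b => by simp [(Finset.mem_filter.1 b.2).2] }
  rw [e.finrank_eq, Module.finrank_fintype_fun_eq_card, Fintype.card_coe]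

variable {M : Type u} [AddCommGroup M] [Module k M] [Module (MvPolynomial (Fin n) k) M]
  [IsScalarTower k (MvPolynomial (Fin n) k) M]
  {ℳ : ℤ → Submodule k M} [DirectSum.Decomposition ℳ] [SetLike.GradedSMul (GrSyz.stdGr k (Fin n)) ℳ]
variable {N : Type u} [AddCommGroup N] [Module k N] [Module (MvPolynomial (Fin n) k) N]
  [IsScalarTower k (MvPolynomial (Fin n) k) N]
  {𝒩 : ℤ → Submodule k N} [DirectSum.Decomposition 𝒩] [SetLike.GradedSMul (GrSyz.stdGr k (Fin n)) 𝒩]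

variable (F : GrSyz.FreeRes (GrSyz.stdGr k (Fin n)) ℳ)

/-- Cycles of degree `j`. -/
def Z : (i : ℕ) → ℤ → Submodule k (Fin (F.rk i) → k)
  | 0, j => supp (F.deg 0) j
  | i + 1, j => supp (F.deg (i + 1)) j ⊓ LinearMap.ker (bar (F.d i))

/-- Boundaries of degree `j`. -/
def B (i : ℕ) (j : ℤ) : Submodule k (Fin (F.rk i) → k) :=
  (supp (F.deg (i + 1)) j).map (bar (F.d i))

lemma Z_le_supp : ∀ (i : ℕ) (j : ℤ), Z F i j ≤ supp (F.deg i) j
  | 0, _ => le_rfl
  | _ + 1, _ => inf_le_left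

lemma B_le_Z : ∀ (i : ℕ) (j : ℤ), B F i j ≤ Z F i j
  | 0, j => Submodule.map_le_iff_le_comap.2 fun _ hx => bar_mem_supp (hmat_d F 0) hx
  | i + 1, j => Submodule.map_le_iff_le_comap.2 fun x hx => ⟨bar_mem_supp (hmat_d F (i + 1)) hx, by
      show bar (F.d i) (bar (F.d (i + 1)) x) = 0
      rw [← bar_mul, d_mul_d, bar_zero]⟩

/-- The homology has no degree `j` part. -/
def Van (i : ℕ) (j : ℤ) : Prop := Z F i j ≤ B F i j

abbrev TorQ (i : ℕ) (j : ℤ) : Type u := ↥(Z F i j) ⧸ (B F i j).comap (Z F i j).subtype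

lemma van_iff_finrank (i : ℕ) (j : ℤ) : Van F i j ↔ Module.finrank k (TorQ F i j) = 0 := by
  rw [Module.finrank_zero_iff, Submodule.Quotient.subsingleton_iff]
  exact Iff.symm Submodule.comap_subtype_eq_top

variable {F}
variable {G : GrSyz.FreeRes (GrSyz.stdGr k (Fin n)) 𝒩} {f : M →ₗ[MvPolynomial (Fin n) k] N} {δ : ℤ}

lemma CMap.bar_mem (φ : CMap F G f δ) {i : ℕ} {j : ℤ} {x : Fin (F.rk i) → k}
    (hx : x ∈ supp (F.deg i) j) : bar (φ.φ i) x ∈ supp (G.deg i) (j + δ) :=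
  bar_mem_supp (φ.hom i) (by rw [supp_shift]; exact hx)

lemma CMap.bar_comm (φ : CMap F G f δ) (i : ℕ) (x : Fin (F.rk (i + 1)) → k) :
    bar (G.d i) (bar (φ.φ (i + 1)) x) = bar (φ.φ i) (bar (F.d i) x) := by
  rw [← bar_mul, φ.comm, bar_mul]

lemma CMap.bar_mem_Z (φ : CMap F G f δ) : ∀ {i : ℕ} {j : ℤ} {x : Fin (F.rk i) → k},
    x ∈ Z F i j → bar (φ.φ i) x ∈ Z G i (j + δ)
  | 0, _, _, hx => φ.bar_mem hx
  | i + 1, _, x, hx => ⟨φ.bar_mem hx.1, by
      show bar (G.d i) _ = 0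
      rw [φ.bar_comm, show bar (F.d i) x = 0 from hx.2, map_zero]⟩

lemma CMap.bar_mem_B (φ : CMap F G f δ) {i : ℕ} {j : ℤ} {x : Fin (F.rk i) → k}
    (hx : x ∈ B F i j) : bar (φ.φ i) x ∈ B G i (j + δ) := by
  obtain ⟨y, hy, rfl⟩ := hx
  exact ⟨bar (φ.φ (i + 1)) y, φ.bar_mem hy, φ.bar_comm i y⟩

variable {F' : GrSyz.FreeRes (GrSyz.stdGr k (Fin n)) ℳ}

lemma roundtrip (φ : CMap F F' LinearMap.id 0) (ψ : CMap F' F LinearMap.id 0) {i : ℕ} {j : ℤ}
    {x : Fin (F.rk i) → k} (hx : x ∈ Z F i j) : bar (ψ.φ i) (bar (φ.φ i) x) - x ∈ B F i j := by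
  have h0 : ∀ {m : ℕ} (d : Fin m → ℤ), (fun b => d b + 0) = d := fun d => funext fun b => add_zero _
  let χ : CMap F F (0 : M →ₗ[MvPolynomial (Fin n) k] M) 0 :=
    { φ := fun i => ψ.φ i * φ.φ i - 1
      hom := fun i => by
        have h1 := ψ.hom i
        have h2 := φ.hom i
        rw [h0] at h1 h2 ⊢
        exact (h1.mul h2).sub (HMat.one _)
      aug := fun b => by
        have e1 : (fun a => (ψ.φ 0 * φ.φ 0 - 1 : Matrix (Fin (F.rk 0)) (Fin (F.rk 0)) (MvPolynomial (Fin n) k)) a b) =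
            Matrix.mulVecLin (ψ.φ 0) (fun c => φ.φ 0 c b) - fun a => (1 : Matrix (Fin (F.rk 0)) (Fin (F.rk 0)) (MvPolynomial (Fin n) k)) a b := by
          rw [mulVec_col]; rfl
        have e2 : F.augLin (fun a => (1 : Matrix (Fin (F.rk 0)) (Fin (F.rk 0)) (MvPolynomial (Fin n) k)) a b) = F.aug b := by
          rw [show (fun a => (1 : Matrix (Fin (F.rk 0)) (Fin (F.rk 0)) (MvPolynomial (Fin n) k)) a b) = Pi.single b 1 from
            funext fun a => by by_cases h : a = b <;> simp [Matrix.one_apply, Pi.single_apply, h]]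
          exact (Fintype.linearCombination_apply_single _ _ b 1).trans (one_smul _ _)
        rw [e1, map_sub, augLin_mulVec F' F (ψ.φ 0) ψ.aug, φ.aug, e2, LinearMap.id_apply, LinearMap.id_apply,
          sub_self, LinearMap.zero_apply]
      comm := fun i => by
        rw [Matrix.mul_sub, Matrix.sub_mul, ← Matrix.mul_assoc, ψ.comm, Matrix.mul_assoc, φ.comm,
          ← Matrix.mul_assoc, Matrix.mul_one, Matrix.one_mul] }
  obtain ⟨h, hh, hh0, hh1⟩ := exists_null F F 0 χ rfl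
  have hx' := Z_le_supp F i j hx
  have hmem : ∀ i (x : Fin (F.rk i) → k), x ∈ supp (F.deg i) j → bar (h i) x ∈ supp (F.deg (i + 1)) j := fun i x hx => by
    have := hh i
    rw [h0] at this
    exact bar_mem_supp this hx
  have key : bar (χ.φ i) x ∈ B F i j := by
    cases i with
    | zero =>
      rw [hh0, bar_mul]
      exact ⟨_, hmem 0 x hx', rfl⟩
    | succ i =>
      rw [hh1, bar_add, bar_mul, bar_mul, show bar (F.d i) x = 0 from hx.2, map_zero, add_zero]
      exact ⟨_, hmem (i + 1) x hx', rfl⟩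
  simp only [χ, bar_sub, bar_mul, bar_one] at key
  exact key

variable (F F')

theorem finrank_torQ_eq (i : ℕ) (j : ℤ) : Module.finrank k (TorQ F i j) = Module.finrank k (TorQ F' i j) := by
  have hid : GrLC.IsGrHomDeg ℳ ℳ (LinearMap.id : M →ₗ[MvPolynomial (Fin n) k] M) 0 := fun g m hm => by
    rwa [add_zero]
  obtain ⟨φ⟩ := exists_cmap F F' 0 LinearMap.id hid
  obtain ⟨ψ⟩ := exists_cmap F' F 0 LinearMap.id hid
  have mk : ∀ (F F' : GrSyz.FreeRes (GrSyz.stdGr k (Fin n)) ℳ) (φ : CMap F F' LinearMap.id 0),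
      ∃ T : TorQ F i j →ₗ[k] TorQ F' i j, ∀ x : Z F i j, ∃ hx : bar (φ.φ i) x.1 ∈ Z F' i j,
        T (Submodule.Quotient.mk x) = Submodule.Quotient.mk ⟨_, hx⟩ := by
    intro F F' φ
    have hZ : ∀ x ∈ Z F i j, bar (φ.φ i) x ∈ Z F' i j := fun x hx => by simpa using φ.bar_mem_Z hx
    refine ⟨Submodule.mapQ _ _ ((bar (φ.φ i)).restrict hZ) (fun x hx => ?_), fun x => ⟨hZ _ x.2, rfl⟩⟩
    show bar (φ.φ i) x.1 ∈ B F' i j
    simpa using φ.bar_mem_B (show x.1 ∈ B F i j from hx)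
  obtain ⟨S, hS⟩ := mk F F' φ
  obtain ⟨T, hT⟩ := mk F' F ψ
  refine (LinearEquiv.ofLinearMap S T ?_ ?_).finrank_eq
  · refine Submodule.linearMap_qext _ (LinearMap.ext fun x => ?_)
    obtain ⟨h1, e1⟩ := hT x
    obtain ⟨h2, e2⟩ := hS ⟨_, h1⟩
    simp only [LinearMap.comp_apply, Submodule.mkQ_apply, LinearMap.id_apply]
    rw [e1, e2, Submodule.Quotient.eq]
    exact roundtrip ψ φ x.2
  · refine Submodule.linearMap_qext _ (LinearMap.ext fun x => ?_)
    obtain ⟨h1, e1⟩ := hS x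
    obtain ⟨h2, e2⟩ := hT ⟨_, h1⟩
    simp only [LinearMap.comp_apply, Submodule.mkQ_apply, LinearMap.id_apply]
    rw [e1, e2, Submodule.Quotient.eq]
    exact roundtrip φ ψ x.2

theorem van_congr (i : ℕ) (j : ℤ) : Van F i j ↔ Van F' i j := by
  rw [van_iff_finrank, van_iff_finrank, finrank_torQ_eq F F']

variable {F}

lemma Z_eq_of_minimal (hF : F.IsMinimal (GrSyz.irrel (GrSyz.stdGr k (Fin n))).toIdeal) :
    ∀ (i : ℕ) (j : ℤ), Z F i j = supp (F.deg i) j
  | 0, _ => rfl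
  | i + 1, _ => inf_eq_left.2 fun x _ => bar_eq_zero (isMinimal_iff.1 hF i) x

lemma B_eq_of_minimal (hF : F.IsMinimal (GrSyz.irrel (GrSyz.stdGr k (Fin n))).toIdeal) (i : ℕ) (j : ℤ) :
    B F i j = ⊥ := by
  refine le_bot_iff.1 ?_
  rintro _ ⟨x, -, rfl⟩
  exact bar_eq_zero (isMinimal_iff.1 hF i) x

lemma finrank_torQ_minimal (hF : F.IsMinimal (GrSyz.irrel (GrSyz.stdGr k (Fin n))).toIdeal) (i : ℕ) (j : ℤ) :
    Module.finrank k (TorQ F i j) = F.betti i j := by
  have e : (B F i j).comap (Z F i j).subtype = ⊥ := by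
    rw [B_eq_of_minimal hF]
    exact LinearMap.ker_eq_bot.2 (Submodule.subtype_injective _)
  rw [(Submodule.quotEquivOfEqBot _ e).finrank_eq, Z_eq_of_minimal hF, finrank_supp]
  rfl

theorem betti_eq {F F' : GrSyz.FreeRes (GrSyz.stdGr k (Fin n)) ℳ}
    (hF : F.IsMinimal (GrSyz.irrel (GrSyz.stdGr k (Fin n))).toIdeal)
    (hF' : F'.IsMinimal (GrSyz.irrel (GrSyz.stdGr k (Fin n))).toIdeal) (i : ℕ) (j : ℤ) :
    F.betti i j = F'.betti i j := by
  rw [← finrank_torQ_minimal hF, ← finrank_torQ_minimal hF', finrank_torQ_eq F F']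

lemma van_iff_betti (hF : F.IsMinimal (GrSyz.irrel (GrSyz.stdGr k (Fin n))).toIdeal) (i : ℕ) (j : ℤ) :
    Van F i j ↔ ∀ b, F.deg i b ≠ j := by
  rw [van_iff_finrank, finrank_torQ_minimal hF, GrSyz.FreeRes.betti, Finset.card_eq_zero, Finset.filter_eq_empty_iff]
  simp

lemma van_of_deg (i : ℕ) (j : ℤ) (h : ∀ b, F.deg i b ≠ j) : Van F i j := fun x hx => by
  have : x = 0 := funext fun b => Z_le_supp F i j hx b (h b)
  rw [this]
  exact Submodule.zero_mem _

theorem isRegLE_iff [Module.Finite (MvPolynomial (Fin n) k) M] (G : GrSyz.FreeRes (GrSyz.stdGr k (Fin n)) ℳ) (r : ℤ) :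
    GrSyz.IsRegLE (GrSyz.stdGr k (Fin n)) ℳ (GrSyz.irrel (GrSyz.stdGr k (Fin n))).toIdeal r ↔
      ∀ (i : ℕ) (j : ℤ), r + i < j → Van G i j := by
  constructor
  · rintro ⟨H, hH, hr⟩ i j hj
    exact (van_congr H G i j).1 ((van_iff_betti hH i j).2 fun b => by have := hr i b; omega)
  · intro h
    obtain ⟨H, hH⟩ := exists_minimal (n := n) ℳ
    refine ⟨H, hH, fun i b => ?_⟩
    by_contra hlt
    exact (van_iff_betti hH i _).1 ((van_congr G H i _).1 (h i (H.deg i b) (by omega))) b rfl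

theorem isRegLE_iff_isGenLE (hF : F.IsMinimal (GrSyz.irrel (GrSyz.stdGr k (Fin n))).toIdeal) (r : ℤ) :
    GrSyz.IsRegLE (GrSyz.stdGr k (Fin n)) ℳ (GrSyz.irrel (GrSyz.stdGr k (Fin n))).toIdeal r ↔ F.IsGenLE r := by
  refine ⟨fun ⟨H, hH, hr⟩ i b => ?_, fun h => ⟨F, hF, h⟩⟩
  by_contra hlt
  refine (van_iff_betti hF i _).1 ((van_congr H F i _).1 ((van_iff_betti hH i (F.deg i b)).2 fun c => ?_)) b rfl
  have := hr i c
  omega

theorem rk_eq {F F' : GrSyz.FreeRes (GrSyz.stdGr k (Fin n)) ℳ}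
    (hF : F.IsMinimal (GrSyz.irrel (GrSyz.stdGr k (Fin n))).toIdeal)
    (hF' : F'.IsMinimal (GrSyz.irrel (GrSyz.stdGr k (Fin n))).toIdeal) (i : ℕ) : F.rk i = F'.rk i := by
  let s := Finset.univ.image (F.deg i) ∪ Finset.univ.image (F'.deg i)
  have h := fun (G : GrSyz.FreeRes (GrSyz.stdGr k (Fin n)) ℳ) (hs : ∀ b, G.deg i b ∈ s) =>
    Finset.card_eq_sum_card_fiberwise (s := (Finset.univ : Finset (Fin (G.rk i)))) (t := s) (f := G.deg i) fun b _ => hs b
  have h1 := h F (fun b => Finset.mem_union_left _ (Finset.mem_image_of_mem _ (Finset.mem_univ b)))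
  have h2 := h F' (fun b => Finset.mem_union_right _ (Finset.mem_image_of_mem _ (Finset.mem_univ b)))
  rw [Finset.card_univ, Fintype.card_fin] at h1 h2
  rw [h1, h2]
  exact Finset.sum_congr rfl fun j _ => betti_eq hF hF' i j

end Groth.Agent.GrSyzMin
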