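import Groth.Agent.GrSyzMin.Minimal
import Mathlib.CategoryTheory.Monoidal.Tor

/-!
The projective resolution underlying a graded free resolution; Tor against the residue field.
-/

set_option autoImplicit false
set_option linter.unusedSectionVars false
universe u

open scoped Classical TensorProduct
open CategoryTheory

noncomputable section

namespace Groth.Agent.GrSyzMin

variable {k : Type u} [Field k] {n : ℕ}
variable {M : Type u} [AddCommGroup M] [Module k M] [Module (MvPolynomial (Fin n) k) M]
  [IsScalarTower k (MvPolynomial (Fin n) k) M]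
  {ℳ : ℤ → Submodule k M} [DirectSum.Decomposition ℳ] [SetLike.GradedSMul (GrSyz.stdGr k (Fin n)) ℳ]
variable (F : GrSyz.FreeRes (GrSyz.stdGr k (Fin n)) ℳ)

/-- The complex of free modules. -/
def cplx : ChainComplex (ModuleCat.{u} (MvPolynomial (Fin n) k)) ℕ :=
  ChainComplex.of (fun i => ModuleCat.of (MvPolynomial (Fin n) k) (Fin (F.rk i) → MvPolynomial (Fin n) k))
    (fun i => ModuleCat.ofHom (F.dLin i)) fun i => ModuleCat.hom_ext (LinearMap.ext fun v =>
      (show F.dLin (i + 1) v ∈ LinearMap.ker (F.dLin i) from by rw [F.exact_succ i]; exact ⟨v, rfl⟩))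

lemma cplx_d (i : ℕ) : (cplx F).d (i + 1) i = ModuleCat.ofHom (F.dLin i) := ChainComplex.of_d (fun i => ModuleCat.of (MvPolynomial (Fin n) k) (Fin (F.rk i) → MvPolynomial (Fin n) k)) (fun i => ModuleCat.ofHom (F.dLin i)) i

/-- The augmentation. -/
def augHom : (cplx F).X 0 ⟶ ModuleCat.of (MvPolynomial (Fin n) k) M := ModuleCat.ofHom F.augLin

lemma d_augHom : (cplx F).d 1 0 ≫ augHom F = 0 := by
  rw [cplx_d]
  exact ModuleCat.hom_ext (LinearMap.ext fun v =>
    (show F.dLin 0 v ∈ LinearMap.ker F.augLin from by rw [F.exact_zero]; exact ⟨v, rfl⟩))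

def toSingle : cplx F ⟶ (ChainComplex.single₀ _).obj (ModuleCat.of (MvPolynomial (Fin n) k) M) :=
  ((cplx F).toSingle₀Equiv _).symm ⟨augHom F, d_augHom F⟩

lemma quasiIso_toSingle : QuasiIso (toSingle F) where
  quasiIsoAt m := by
    cases m with
    | zero =>
      rw [ChainComplex.quasiIsoAt₀_iff, ShortComplex.quasiIso_iff_of_zeros' _ rfl rfl rfl]
      constructor
      · rw [ShortComplex.moduleCat_exact_iff_range_eq_ker]
        simp [toSingle, ChainComplex.toSingle₀Equiv, augHom, cplx_d]
        exact F.exact_zero.symm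
      · rw [ModuleCat.epi_iff_surjective]
        simp [toSingle, ChainComplex.toSingle₀Equiv, augHom]
        exact F.aug_surjective
    | succ m =>
      rw [quasiIsoAt_iff_exactAt' (hL := ChainComplex.exactAt_succ_single_obj ..),
        HomologicalComplex.exactAt_iff' _ (m + 2) (m + 1) m (by simp) (by simp),
        ShortComplex.moduleCat_exact_iff_range_eq_ker]
      simp [cplx_d]
      exact (F.exact_succ m).symm

/-- The projective resolution. -/
def projRes : ProjectiveResolution (ModuleCat.of (MvPolynomial (Fin n) k) M) where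
  complex := cplx F
  projective i := inferInstanceAs (Projective (ModuleCat.of (MvPolynomial (Fin n) k) (Fin (F.rk i) → MvPolynomial (Fin n) k)))
  π := toSingle F
  quasiIso := quasiIso_toSingle F

variable {F} (hF : F.IsMinimal (GrSyz.irrel (GrSyz.stdGr k (Fin n))).toIdeal)

include hF in
lemma lTensor_d_eq_zero (i : ℕ) :
    (F.dLin i).lTensor (MvPolynomial (Fin n) k ⧸ (GrSyz.irrel (GrSyz.stdGr k (Fin n))).toIdeal) = 0 := by
  refine TensorProduct.ext' fun q v => ?_
  rw [LinearMap.lTensor_tmul, LinearMap.zero_apply, ← Finset.univ_sum_single (F.dLin i v), TensorProduct.tmul_sum]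
  refine Finset.sum_eq_zero fun a _ => ?_
  have h1 : Pi.single a (F.dLin i v a) = F.dLin i v a • (Pi.single a 1 : Fin (F.rk i) → MvPolynomial (Fin n) k) := by
    funext b
    by_cases h : b = a
    · subst h; simp
    · simp [Pi.single_eq_of_ne h]
  have h2 : F.dLin i v a ∈ (GrSyz.irrel (GrSyz.stdGr k (Fin n))).toIdeal := by
    show ∑ b, F.d i a b * v b ∈ _
    exact Ideal.sum_mem _ fun b _ => Ideal.mul_mem_right _ _ (hF i a b)
  obtain ⟨p, rfl⟩ := Ideal.Quotient.mk_surjective q
  rw [h1, ← TensorProduct.smul_tmul]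
  have : F.dLin i v a • Ideal.Quotient.mk (GrSyz.irrel (GrSyz.stdGr k (Fin n))).toIdeal p = 0 := by
    rw [Algebra.smul_def, Ideal.Quotient.algebraMap_eq, Ideal.Quotient.eq_zero_iff_mem.2 h2, zero_mul]
  rw [this, TensorProduct.zero_tmul]

lemma isMaximal_irrel : ((GrSyz.irrel (GrSyz.stdGr k (Fin n))).toIdeal).IsMaximal := by
  have h : (GrSyz.irrel (GrSyz.stdGr k (Fin n))).toIdeal = RingHom.ker (MvPolynomial.constantCoeff : MvPolynomial (Fin n) k →+* k) :=
    Ideal.ext fun p => mem_irrel_iff
  rw [h]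
  exact RingHom.ker_isMaximal_of_surjective _ fun c => ⟨MvPolynomial.C c, MvPolynomial.constantCoeff_C _ c⟩

include hF in
theorem length_tor (i : ℕ) :
    Module.length (MvPolynomial (Fin n) k)
        (((CategoryTheory.Tor (ModuleCat.{u} (MvPolynomial (Fin n) k)) i).obj
            (ModuleCat.of (MvPolynomial (Fin n) k) ((MvPolynomial (Fin n) k) ⧸ (GrSyz.irrel (GrSyz.stdGr k (Fin n))).toIdeal))).obj
          (ModuleCat.of (MvPolynomial (Fin n) k) M)) = (F.rk i : ℕ∞) := by
  let A := MvPolynomial (Fin n) k ⧸ (GrSyz.irrel (GrSyz.stdGr k (Fin n))).toIdeal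
  let T := (MonoidalCategory.tensoringLeft (ModuleCat.{u} (MvPolynomial (Fin n) k))).obj (ModuleCat.of (MvPolynomial (Fin n) k) A)
  let K := (T.mapHomologicalComplex (ComplexShape.down ℕ)).obj (projRes F).complex
  have hd : ∀ a b, K.d a b = 0 := by
    intro a b
    by_cases h : b + 1 = a
    · subst h
      show T.map ((cplx F).d (b + 1) b) = 0
      rw [cplx_d]
      exact ModuleCat.hom_ext (lTensor_d_eq_zero hF b)
    · exact K.shape a b h
  have e : ((CategoryTheory.Tor (ModuleCat.{u} (MvPolynomial (Fin n) k)) i).obj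
      (ModuleCat.of (MvPolynomial (Fin n) k) A)).obj (ModuleCat.of (MvPolynomial (Fin n) k) M) ≅ K.X i :=
    (projRes F).isoLeftDerivedObj T i ≪≫
      (ShortComplex.HomologyData.ofZeros (K.sc i) (hd _ _) (hd _ _)).left.homologyIso
  rw [e.toLinearEquiv.length_eq]
  show Module.length (MvPolynomial (Fin n) k) (A ⊗[MvPolynomial (Fin n) k] (Fin (F.rk i) → MvPolynomial (Fin n) k)) = _
  rw [(TensorProduct.piScalarRight (MvPolynomial (Fin n) k) (MvPolynomial (Fin n) k) A (Fin (F.rk i))).length_eq,
    Module.length_pi_of_fintype]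
  haveI : IsSimpleModule (MvPolynomial (Fin n) k) A := isSimpleModule_iff_isCoatom.mpr isMaximal_irrel.out
  simp [Module.length_eq_one]

end Groth.Agent.GrSyzMin
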